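import Cfsg.Agent.H884.Od8.Row
import Cfsg.Agent.H57.BG.Level
import Cfsg.Agent.H503.El.Struct
import Cfsg.Agent.H257.El.Top

/-!
# S3679: the coatoms of `Ω⁺₈(2)` of index `36`, `225`, `450`, `1800`, `3600` (helper884, P2 for helper899)
-/

set_option autoImplicit false
set_option maxRecDepth 100000
set_option linter.unusedSectionVars false
set_option linter.unusedVariables false
set_option linter.style.haveILetI false

namespace Cfsg.Agent.H884.Oc

open Subgroup Cfsg Cfsg.Agent Cfsg.Agent.H503 Cfsg.Agent.H503.El.O8 Cfsg.Agent.H57.BG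
open Cfsg.Agent.H257.El (Top exists_top)
open Cfsg.Agent.H970.StabNum

/-- P1 (helper427): a subgroup with a nontrivial normal `2`-subgroup which is large at `7` and `3` fixes a vector -/
def P1 : Prop := ∀ (M : Subgroup T8) (O : Subgroup M), O.Normal → IsPGroup 2 O → O ≠ ⊥ → 7 ∣ Nat.card M →
  ¬ 49 ∣ Nat.card M → (∀ K : Subgroup M, K.Normal → ¬ 7 ∣ Nat.card K → 27 ∣ K.index) →
  ∃ v : I8 → ZMod 2, v ≠ 0 ∧ ∀ g : S8, e8 g ∈ M → (rho g).mulVec v = v

section gen

variable {H : Type*} [Group H] [Finite H]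

/-- the largest normal `p'`-subgroup of `L ⊲ H` is normal in `H` -/
theorem normal_of_simple {p : ℕ} (hp : p.Prime) {L : Subgroup H} (hL : L.Normal) {R : Subgroup L} (hR : R.Normal)
    (hs : IsSimpleGroup (L ⧸ R)) (hR' : ¬ p ∣ Nat.card R) (hd : p ∣ Nat.card (L ⧸ R)) : (R.map L.subtype).Normal := by
  have key : ∀ g : H, R.map (MulAut.conjNormal g : MulAut L).toMonoidHom ≤ R := by
    intro g
    have hn : (R.map (MulAut.conjNormal g : MulAut L).toMonoidHom).Normal :=
      hR.map _ (MulAut.conjNormal g : MulAut L).surjective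
    have hc : Nat.card (R.map (MulAut.conjNormal g : MulAut L).toMonoidHom : Subgroup L) = Nat.card R :=
      Subgroup.card_map_of_injective (MulAut.conjNormal g : MulAut L).injective
    rcases (hn.map (QuotientGroup.mk' R) (QuotientGroup.mk'_surjective R)).eq_bot_or_eq_top with h | h
    · rwa [Subgroup.map_eq_bot_iff, QuotientGroup.ker_mk'] at h
    · exfalso
      have h1 := Subgroup.card_map_dvd (R.map (MulAut.conjNormal g : MulAut L).toMonoidHom) (QuotientGroup.mk' R)
      rw [h, Subgroup.card_top, hc] at h1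
      exact hR' (hd.trans h1)
  refine ⟨?_⟩
  rintro _ ⟨x, hx, rfl⟩ g
  refine ⟨(MulAut.conjNormal g : MulAut L) x, key g ⟨x, hx, rfl⟩, ?_⟩
  exact MulAut.conjNormal_apply g x

end gen

variable (OT : OrdDiv.OrderTable.{0})
  (hS : ∀ (X : Type) [Group X] [Finite X] [IsSimpleGroup X], Cfsg.IsKnownSimple' X)

/-- the five orders -/
def bad : List ℕ := [4838400, 774144, 387072, 96768, 48384]

/-- orders of simple groups -/
def tbl8 : List ℕ := [60, 168, 360, 504, 2520, 6048, 20160, 25920, 181440, 604800, 1451520, 1814400, 174182400]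

theorem num8 : ∀ h ∈ bad, (7 ∣ h ∧ ¬ 49 ∣ h) ∧ (27 ∣ h ∧ h ∣ 174182400) ∧
    ((∀ i ∈ [1, 2, 3, 6], h ≠ 7 * i) ∧ ∀ s ∈ tbl8, ∀ i ∈ [1, 2, 3, 6], h ≠ s * i) := by
  decide +kernel

theorem selfcent {x : T8} (hx : orderOf x = 7) (y : T8) (h : x * y = y * x) : orderOf y ∣ 7 := by
  haveI : Fact (Nat.Prime 7) := ⟨by norm_num⟩
  have hex := H732.SelfCent.omega8plus_selfcent (F := ZMod 2) (ZMod.card 2)
  have hent := (El.entry_of_ex (M := 6) (T := T8) (p := 7) (by norm_num) card_t8 (by norm_num) (by norm_num)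
    (by decide +kernel) hex (zpowers x) (by rw [Nat.card_zpowers, hx])).1
  rw [mul_one] at hent
  refine dvd_trans ?_ hent
  exact Subgroup.orderOf_dvd_natCard _ (by
    rw [mem_centralizer_iff]
    rintro _ ⟨k, rfl⟩
    exact ((show Commute x y from h).zpow_left k).eq)

theorem no_order {M : Subgroup T8} {s : ℕ} (hs : s.Prime) (h7 : 7 ≠ s) (z : M) : orderOf z ≠ 7 * s := by
  intro hz
  have hz' : orderOf ((z : T8) ^ s) = 7 := by
    rw [orderOf_pow_of_dvd hs.ne_zero (by rw [Subgroup.orderOf_coe, hz]; exact dvd_mul_left _ _),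
      Subgroup.orderOf_coe, hz, Nat.mul_div_cancel _ hs.pos]
  have h1 := selfcent hz' ((z : T8) ^ 7) (by rw [← pow_add, ← pow_add, add_comm])
  rw [orderOf_pow_of_dvd (by norm_num) (by rw [Subgroup.orderOf_coe, hz]; exact dvd_mul_right _ _),
      Subgroup.orderOf_coe, hz, Nat.mul_div_cancel_left _ (by norm_num)] at h1
  exact h7 ((Nat.prime_dvd_prime_iff_eq hs (by norm_num)).1 h1).symm

include OT hS

set_option maxHeartbeats 1000000 in
/-- **the structure** -/
theorem step {M : Subgroup T8} (hM : Nat.card M ∈ bad) :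
    ∃ O : Subgroup M, O.Normal ∧ IsPGroup 2 O ∧ O ≠ ⊥ ∧
      ∀ K : Subgroup M, K.Normal → ¬ 7 ∣ Nat.card K → 27 ∣ K.index := by
  haveI h7p : Fact (Nat.Prime 7) := ⟨by norm_num⟩
  obtain ⟨⟨h7, h49⟩, ⟨h27, hdT⟩, hn1, hn2⟩ := num8 _ hM
  obtain ⟨O, hO, N, h⟩ := exists_top (R := M) (r := 7) (by norm_num) h7 (by norm_num; exact h49)
  have hord : ∀ s ∈ [3, 5], ∀ b, 1 ≤ b → s ^ b ∣ Nat.card M → s ^ b % 7 ≠ 1 := by
    intro s hs b hb hd
    have h1 : s ^ b ∣ 174182400 := hd.trans hdT
    have hb6 : b < 6 := by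
      by_contra hcon
      have h2 : s ^ 6 ∣ s ^ b := pow_dvd_pow s (by omega)
      have h3 := h2.trans h1
      rcases List.mem_cons.1 hs with rfl | hs
      · exact absurd h3 (by norm_num)
      · rw [List.mem_singleton] at hs
        subst hs
        exact absurd h3 (by norm_num)
    rcases List.mem_cons.1 hs with rfl | hs
    · interval_cases b <;> simp
    · rw [List.mem_singleton] at hs
      subst hs
      interval_cases b <;> simp
  have h3 : ¬ 3 ∣ Nat.card O := h.not_dvd_core (by norm_num) (by norm_num)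
    (no_order (by norm_num) (by norm_num)) (hord 3 (by simp))
  have h5 : ¬ 5 ∣ Nat.card O := h.not_dvd_core (by norm_num) (by norm_num)
    (no_order (by norm_num) (by norm_num)) (hord 5 (by simp))
  have hO2 : IsPGroup 2 O := by
    have h1 : Nat.card O ∣ 2 ^ 12 * (3 ^ 5 * (5 ^ 2 * 7)) :=
      ((Subgroup.card_subgroup_dvd_card O).trans hdT).trans (by norm_num)
    have c3 : Nat.Coprime (Nat.card O) (3 ^ 5) :=
      ((Nat.Prime.coprime_iff_not_dvd (by norm_num)).2 h3).symm.pow_right 5
    have c5 : Nat.Coprime (Nat.card O) (5 ^ 2) :=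
      ((Nat.Prime.coprime_iff_not_dvd (by norm_num)).2 h5).symm.pow_right 2
    have c7 : Nat.Coprime (Nat.card O) 7 := ((Nat.Prime.coprime_iff_not_dvd (by norm_num)).2 h.core).symm
    have h2 : Nat.card O ∣ 2 ^ 12 :=
      Nat.Coprime.dvd_of_dvd_mul_right (c3.mul_right (c5.mul_right c7)) h1
    obtain ⟨k, -, hk⟩ := (Nat.dvd_prime_pow Nat.prime_two).1 h2
    exact IsPGroup.of_card hk
  have hle : ∀ K : Subgroup M, K.Normal → ¬ 7 ∣ Nat.card K → K ≤ O := by
    intro K hK hK7
    have h1 := h.bot (K.map (QuotientGroup.mk' O)) (hK.map _ (QuotientGroup.mk'_surjective O))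
      (fun hd => hK7 (hd.trans (Subgroup.card_map_dvd K _)))
    rwa [Subgroup.map_eq_bot_iff, QuotientGroup.ker_mk'] at h1
  refine ⟨O, hO, hO2, ?_, ?_⟩
  · -- the structure theorem
    obtain ⟨x, hx⟩ := exists_prime_orderOf_dvd_card' (G := M) 7 h7
    have hPc : Nat.card (zpowers x) = 7 := by rw [Nat.card_zpowers, hx]
    obtain ⟨L, hL, R, hR, hs, hR7, hPL, hcard, hd, D, m, hN, hDC, hDR, hr⟩ :=
      El.Struct.exists_struct' (p := 7) (P := zpowers x) hPc (by norm_num; exact h49)
    have hent := El.entry_of_ex (M := 6) (T := T8) (p := 7) (by norm_num) card_t8 (by norm_num) (by norm_num)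
      (by decide +kernel) (H732.SelfCent.omega8plus_selfcent (F := ZMod 2) (ZMod.card 2)) (zpowers (x : T8))
      (by rw [Nat.card_zpowers, Subgroup.orderOf_coe, hx])
    have hmap : (zpowers x).map M.subtype = zpowers (x : T8) := by
      rw [MonoidHom.map_zpowers]; rfl
    have hNd : Nat.card (normalizer ((zpowers x : Subgroup M) : Set M)) ∣ 42 := by
      have h1 : (normalizer ((zpowers x : Subgroup M) : Set M)).map M.subtype ≤
          normalizer ((zpowers (x : T8) : Subgroup T8) : Set T8) := by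
        rw [← hmap]
        exact Subgroup.le_normalizer_map M.subtype
      have h2 := (Subgroup.card_dvd_of_le h1).trans hent.2
      rwa [Subgroup.card_map_of_injective M.subtype_injective] at h2
    have hidx : L.index ∣ 6 := by
      have h1 : L.index * (D * (7 * m)) ∣ 42 := by rw [← hN]; exact hNd
      have h2 : L.index * 7 ∣ 6 * 7 := (Dvd.intro (D * m) (by ring)).trans h1
      exact Nat.dvd_of_mul_dvd_mul_right (by norm_num) h2
    have hidx' : L.index ∈ [1, 2, 3, 6] := by
      have h1 := Nat.le_of_dvd (by norm_num) hidx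
      interval_cases L.index <;> simp_all
    intro hbot
    have hRn := normal_of_simple (p := 7) (by norm_num) hL hR hs hR7 hd
    have h1 := hle _ hRn (by rwa [Subgroup.card_map_of_injective L.subtype_injective])
    rw [hbot, le_bot_iff, Subgroup.map_eq_bot_iff_of_injective _ L.subtype_injective] at h1
    have hR1 : Nat.card R = 1 := by rw [h1, Subgroup.card_bot]
    rw [hR1, one_mul] at hcard
    by_cases hna : ∀ a b : L ⧸ R, a * b = b * a
    · have h2 : Nat.card (L ⧸ R) = 7 := by
        letI : CommGroup (L ⧸ R) := { (inferInstance : Group (L ⧸ R)) with mul_comm := hna }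
        have h3 := IsSimpleGroup.prime_card (α := L ⧸ R)
        exact ((Nat.prime_dvd_prime_iff_eq (by norm_num) h3).1 hd).symm
      rw [h2] at hcard
      exact hn1 _ hidx' hcard
    · have h2 : Nat.card (L ⧸ R) ∈ tbl8 := by
        refine mem_tbl OT hS (l := [(2, 12), (3, 5), (5, 2), (7, 1)]) (N := 174182400) (by decide +kernel)
          (by decide +kernel) (L ⧸ R) hs hna ?_
        refine dvd_trans ?_ hdT
        rw [hcard]
        exact dvd_mul_right _ _
      exact hn2 _ h2 _ hidx' hcard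
  · intro K hK hK7
    have h1 := Subgroup.card_dvd_of_le (hle K hK hK7)
    have h2 : ¬ 3 ∣ Nat.card K := fun hd => h3 (hd.trans h1)
    have h3' : Nat.Coprime 27 (Nat.card K) := by
      have := ((Nat.Prime.coprime_iff_not_dvd (by norm_num)).2 h2).pow_left 3
      simpa using this
    have h4 : 27 ∣ Nat.card K * K.index := by rw [Subgroup.card_mul_index]; exact h27
    exact h3'.dvd_of_dvd_mul_left h4

omit OT hS in
theorem hnd8 : (QuadraticMap.polarBilin (LieClassical.OmegaReindex.quadPlus 4 (ZMod 2))).Nondegenerate :=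
  LieClassical.OmegaReindex.quadPlus_nondegenerate (m := 4) (F := ZMod 2)

omit OT hS in
theorem index_s8 : (Omega (ZMod 2) Q8).index = 2 := by
  have h1 := ClassicalGeometry.OrthDickson.index_commutator_two (LieClassical.OmegaReindex.quadPlus 4 (ZMod 2))
    (by decide) hnd8 (Or.inr (by simp))
  exact h1

omit OT hS in
/-- the orbits of the isometry group -/
theorem orbit_iso {v : I8 → ZMod 2} (hv : v ≠ 0) :
    letI := actV Q8
    MulAction.orbit (isometryGroup (ZMod 2) Q8) v = {u | u ≠ 0 ∧ Q8 u = Q8 v} := by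
  letI := actV Q8
  ext u
  constructor
  · rintro ⟨g, rfl⟩
    refine ⟨?_, ?_⟩
    · intro h
      apply hv
      have h2 : g⁻¹ • (g • v) = v := inv_smul_smul g v
      rw [← h2]
      show (((g⁻¹ : isometryGroup (ZMod 2) Q8) : GL I8 (ZMod 2)) : Matrix I8 I8 (ZMod 2)).mulVec (g • v) = 0
      have h3 : g • v = 0 := h
      rw [h3, Matrix.mulVec_zero]
    · exact H957.mem_isometryGroup.1 g.2 v
  · rintro ⟨hu, huv⟩
    obtain ⟨g, hg, -, hgv⟩ := H957.witt_fix (LieClassical.OmegaReindex.quadPlus 4 (ZMod 2)) hnd8 ⊥ v u huv.symm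
      (fun w hw => by rw [(Submodule.mem_bot _).1 hw]; simp) (fun w hw => by rw [(Submodule.mem_bot _).1 hw]; simp)
      (fun h => hv ((Submodule.mem_bot _).1 h)) (fun h => hu ((Submodule.mem_bot _).1 h))
    exact ⟨⟨H957.glOf g, H957.glOf_mem hg⟩, by
      show (H957.glOf g : Matrix I8 I8 (ZMod 2)).mulVec v = u
      rw [H957.glOf_mulVec, hgv]⟩

omit OT hS in
theorem card_lvl (c : ZMod 2) : Nat.card {u : I8 → ZMod 2 // u ≠ 0 ∧ Q8 u = c} = if c = 0 then 135 else 120 := by
  rw [Nat.card_eq_fintype_card, Fintype.card_subtype]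
  revert c
  decide +kernel

omit OT hS in
theorem orbit_dvd {M : Subgroup T8} {v : I8 → ZMod 2} (hv : v ≠ 0)
    (h : ∀ g : S8, e8 g ∈ M → (rho g).mulVec v = v) : (if Q8 v = 0 then 135 else 120) ∣ 2 * M.index := by
  letI := actV Q8
  have h1 := card_orbit_dvd' (up Q8 M) v (by
    rintro _ ⟨g, hg, rfl⟩
    exact h g hg)
  rw [index_up, orbit_iso hv, index_s8] at h1
  have h2 := card_lvl (Q8 v)
  rwa [show Nat.card {u : I8 → ZMod 2 | u ≠ 0 ∧ Q8 u = Q8 v} = _ from h2] at h1

attribute [local instance] act8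

omit OT hS in
/-- a coatom which fixes a nonzero vector -/
theorem index_le {M : Subgroup T8} (hM : IsCoatom M) {v : I8 → ZMod 2} (hv : v ≠ 0)
    (h : ∀ g : S8, e8 g ∈ M → (rho g).mulVec v = v) : M.index ≤ if Q8 v = 0 then 135 else 120 := by
  set w : Multiplicative (I8 → ZMod 2) := Multiplicative.ofAdd v with hw
  set S := MulAction.stabilizer S8 w with hSdef
  have hmem : ∀ g : S8, g ∈ S ↔ (rho g).mulVec v = v := by
    intro g
    rw [hSdef, MulAction.mem_stabilizer_iff, smul_def]
    exact ⟨fun h => Multiplicative.ofAdd.injective h, fun h => congrArg Multiplicative.ofAdd h⟩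
  have h1 : M ≤ S.map e8.toMonoidHom := by
    intro x hx
    refine ⟨e8.symm x, (hmem _).2 (h _ (by rwa [e8.apply_symm_apply])), e8.apply_symm_apply x⟩
  have h2 : S.map e8.toMonoidHom ≠ ⊤ := by
    intro htop
    have h3 := orbit_dvd (M := (⊤ : Subgroup T8)) hv (fun g _ => by
      have h4 : e8 g ∈ S.map e8.toMonoidHom := by rw [htop]; trivial
      obtain ⟨g', hg', he⟩ := h4
      have h5 : g' = g := e8.injective he
      rw [← h5]
      exact (hmem _).1 hg')
    rw [Subgroup.index_top] at h3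
    split_ifs at h3 <;> exact absurd h3 (by norm_num)
  have h3 : S.map e8.toMonoidHom = M := (hM.le_iff.1 h1).resolve_left h2
  have h4 : M.index = S.index := by
    rw [← h3]
    exact Subgroup.index_map_of_bijective (f := e8.toMonoidHom) e8.bijective S
  rw [h4, hSdef, MulAction.index_stabilizer, ← card_lvl (Q8 v)]
  have h5 : MulAction.orbit S8 w ⊆ Multiplicative.toAdd ⁻¹' {u : I8 → ZMod 2 | u ≠ 0 ∧ Q8 u = Q8 v} := by
    rintro _ ⟨g, rfl⟩
    refine ⟨?_, rho_iso g v⟩
    intro h6
    apply hv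
    have h7 : g • w = 1 := h6
    have h8 : w = 1 := by rw [← inv_smul_smul g w, h7, smul_one]
    exact h8
  refine (Set.ncard_le_ncard h5 (Set.toFinite _)).trans ?_
  rfl

/-- **P2** -/
theorem p2_t8 (hP : P1) {M : Subgroup T8} (hM : IsCoatom M) (hi : M.index ∈ [36, 225, 450, 1800, 3600]) : False := by
  have hc : Nat.card M * M.index = 174182400 := by rw [Subgroup.card_mul_index]; exact card_t8
  have hb : Nat.card M ∈ bad := by
    have h1 : M.index = 36 ∨ M.index = 225 ∨ M.index = 450 ∨ M.index = 1800 ∨ M.index = 3600 := by simpa using hi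
    have h2 : Nat.card M = 4838400 ∨ Nat.card M = 774144 ∨ Nat.card M = 387072 ∨ Nat.card M = 96768 ∨
        Nat.card M = 48384 := by
      rcases h1 with h | h | h | h | h <;> rw [h] at hc <;> omega
    simpa [bad] using h2
  obtain ⟨⟨h7, h49⟩, -⟩ := num8 _ hb
  obtain ⟨O, hO, hO2, hO1, hK⟩ := step OT hS hb
  obtain ⟨v, hv, hfix⟩ := hP M O hO hO2 hO1 h7 h49 hK
  have h1 := orbit_dvd hv hfix
  have h2 := index_le hM hv hfix
  have h3 : M.index = 36 ∨ M.index = 225 ∨ M.index = 450 ∨ M.index = 1800 ∨ M.index = 3600 := by simpa using hi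
  split_ifs at h1 h2 with h0
  · omega
  · omega

/-- **P2**, over any field with two elements -/
theorem p2 (hP : P1) (F : Type) [Field F] [Fintype F] (hF : Fintype.card F = 2)
    {M : Subgroup (POmega F (quadFormPlus 4 F))} (hM : IsCoatom M) (hi : M.index ∈ [36, 225, 450, 1800, 3600]) :
    False := by
  set e := El.pomCongr hF with he
  have hidx : (M.comap e.toMonoidHom).index = M.index := Subgroup.index_comap_of_surjective M e.surjective
  refine p2_t8 OT hS hP (M := M.comap e.toMonoidHom) ?_ (by rwa [hidx])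
  have h1 : M.comap e.toMonoidHom = M.map e.symm.toMonoidHom := (Subgroup.map_equiv_eq_comap_symm e.symm M).symm
  rw [h1]
  exact (OrderIso.isCoatom_iff (MulEquiv.mapSubgroup e.symm) M).2 hM

end Cfsg.Agent.H884.Oc
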