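import Cfsg.Agent.H884.Oc.Cent
import Cfsg.Agent.H884.Oc.Gen
import Cfsg.Agent.S0023
import Cfsg.Agent.S0058

/-!
# S3938, `Ω⁺₈(2)`: automorphisms of order `3` outside `PO` (helper884)
-/

set_option autoImplicit false
set_option maxRecDepth 100000
set_option linter.unusedSectionVars false
set_option linter.style.haveILetI false
set_option linter.unusedVariables false

namespace Cfsg.Agent.H884.Oc

open Subgroup Cfsg Cfsg.Agent Cfsg.Agent.H503 Cfsg.Agent.H503.El.O8 Module
open Cfsg.Agent.H884.Od8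

open scoped commutatorElement

attribute [local instance] act8

theorem sylow_conj {p : ℕ} [Fact p.Prime] {G : Type*} [Group G] [Finite G] {P Q : Subgroup G} {k : ℕ}
    (hP : Nat.card P = p ^ k) (hQ : Nat.card Q = p ^ k) (hk : ¬ p ^ (k + 1) ∣ Nat.card G) :
    ∃ g : G, P.map (MulAut.conj g).toMonoidHom = Q := by
  have key : ∀ P : Subgroup G, Nat.card P = p ^ k → ∃ S : Sylow p G, (S : Subgroup G) = P := by
    intro P hP
    obtain ⟨S, hS⟩ := (IsPGroup.of_card hP).exists_le_sylow
    refine ⟨S, (Subgroup.eq_of_le_of_card_ge hS ?_).symm⟩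
    obtain ⟨l, hl⟩ := IsPGroup.iff_card.1 S.isPGroup'
    rw [hl, hP]
    refine Nat.pow_le_pow_right (Nat.Prime.pos Fact.out) ?_
    by_contra hcon
    exact hk ((pow_dvd_pow p (by omega : k + 1 ≤ l)).trans (hl ▸ Subgroup.card_subgroup_dvd_card (S : Subgroup G)))
  obtain ⟨S, rfl⟩ := key P hP
  obtain ⟨T, rfl⟩ := key Q hQ
  obtain ⟨g, hg⟩ := MulAction.exists_smul_eq G S T
  refine ⟨g, ?_⟩
  rw [← hg, Sylow.coe_subgroup_smul]
  rfl

theorem exists_std : ∃ E : Subgroup S8, E25 E := by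
  haveI : Fact (Nat.Prime 5) := ⟨Nat.prime_five⟩
  obtain ⟨A, B, hA, hB, hAo, hBo, hAB, hne, -, -⟩ := exists_AB
  have hA5 : A ^ 5 = 1 := by
    have := pow_orderOf_eq_one A
    rwa [hAo] at this
  have hB5 : B ^ 5 = 1 := by
    have := pow_orderOf_eq_one B
    rwa [hBo] at this
  let E : Subgroup S8 :=
    { carrier := {g | ∃ i j : ℕ, g = A ^ i * B ^ j}
      one_mem' := ⟨0, 0, by simp⟩
      mul_mem' := by
        rintro _ _ ⟨i, j, rfl⟩ ⟨i', j', rfl⟩
        refine ⟨i + i', j + j', ?_⟩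
        rw [pow_add, pow_add]
        calc A ^ i * B ^ j * (A ^ i' * B ^ j') = A ^ i * (B ^ j * A ^ i') * B ^ j' := by group
          _ = A ^ i * (A ^ i' * B ^ j) * B ^ j' := by rw [((hAB.pow_left i').pow_right j).eq]
          _ = _ := by group
      inv_mem' := by
        rintro _ ⟨i, j, rfl⟩
        refine ⟨4 * i, 4 * j, ?_⟩
        apply inv_eq_of_mul_eq_one_right
        calc A ^ i * B ^ j * (A ^ (4 * i) * B ^ (4 * j)) = A ^ i * (B ^ j * A ^ (4 * i)) * B ^ (4 * j) := by group
          _ = A ^ i * (A ^ (4 * i) * B ^ j) * B ^ (4 * j) := by rw [((hAB.pow_left (4 * i)).pow_right j).eq]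
          _ = A ^ (5 * i) * B ^ (5 * j) := by
              rw [show 5 * i = i + 4 * i by ring, show 5 * j = j + 4 * j by ring, pow_add A, pow_add B]; group
          _ = 1 := by rw [pow_mul, pow_mul, hA5, hB5, one_pow, one_pow, one_mul] }
  have hE5 : ∀ g ∈ E, g ^ 5 = 1 := by
    rintro _ ⟨i, j, rfl⟩
    rw [((hAB.pow_left i).pow_right j).mul_pow, ← pow_mul, ← pow_mul, mul_comm i, mul_comm j, pow_mul, pow_mul,
      hA5, hB5, one_pow, one_pow, one_mul]
  have hEp : IsPGroup 5 E := fun g => ⟨1, by rw [pow_one]; exact Subtype.ext (hE5 g g.2)⟩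
  have hAE : A ∈ E := ⟨1, 0, by simp⟩
  have hBE : B ∈ E := ⟨0, 1, by simp⟩
  obtain ⟨k, hk⟩ := hEp.exists_card_eq
  have hk2 : k = 2 := by
    have h2 : k ≤ 2 := by
      by_contra hcon
      have h3 : 5 ^ 3 ∣ 5 ^ k := pow_dvd_pow 5 (by omega)
      exact s125 (h3.trans (hk ▸ Subgroup.card_subgroup_dvd_card E))
    have h3 : 2 ≤ k := by
      by_contra hcon
      have h4 : zpowers A = E := by
        refine Subgroup.eq_of_le_of_card_ge (zpowers_le.2 hAE) ?_
        rw [hk, Nat.card_zpowers, hAo]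
        calc 5 ^ k ≤ 5 ^ 1 := Nat.pow_le_pow_right (by norm_num) (by omega)
          _ = 5 := by norm_num
      exact hne (h4 ▸ hBE)
    omega
  refine ⟨E, by rw [hk, hk2]; norm_num, hE5, ?_⟩
  rintro _ ⟨i, j, rfl⟩ _ ⟨i', j', rfl⟩
  have h1 : Commute (A ^ i * B ^ j) (A ^ i' * B ^ j') := by
    have a1 : Commute (A ^ i) (A ^ i') := (Commute.refl A).pow_pow i i'
    have a2 : Commute (A ^ i) (B ^ j') := hAB.pow_pow i j'
    have a3 : Commute (B ^ j) (A ^ i') := hAB.symm.pow_pow j i'
    have a4 : Commute (B ^ j) (B ^ j') := (Commute.refl B).pow_pow j j'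
    exact (a1.mul_left a3).mul_right (a2.mul_left a4)
  exact h1.eq

/-- all subgroups of order `25` -/
theorem e25_of_card {P : Subgroup S8} (h : Nat.card P = 25) : E25 P := by
  haveI : Fact (Nat.Prime 5) := ⟨Nat.prime_five⟩
  obtain ⟨E, hE⟩ := exists_std
  obtain ⟨g, hg⟩ := sylow_conj (p := 5) (k := 2) (P := E) (Q := P) (by rw [hE.card]; norm_num) (by rw [h]; norm_num)
    s125
  rw [← hg]
  exact hE.map (MulAut.conj g)

theorem exists_e25 {g : S8} (ho : orderOf g = 5) : ∃ E : Subgroup S8, E25 E ∧ g ∈ E := by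
  haveI : Fact (Nat.Prime 5) := ⟨Nat.prime_five⟩
  obtain ⟨E, hE⟩ := exists_std
  obtain ⟨b, hb⟩ := exists_conj (p := 5) (E := E) (k := 2) (by rw [hE.card]; norm_num) s125 ho
  refine ⟨_, hE.map (MulAut.conj b⁻¹), _, hb, ?_⟩
  show b⁻¹ * (b * g * b⁻¹) * b⁻¹⁻¹ = g
  group

/-- no subgroup of order `5` is mapped to a conjugate -/
theorem no_fix5 {a : MulAut S8} (ha : a ∉ PO) (ha' : a * a ∉ PO) {q s : S8} (hq : orderOf q = 5) {k : ℕ}
    (h : a q = s * q ^ k * s⁻¹) : False := by
  have hk : ¬ 5 ∣ k := by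
    rintro ⟨t, rfl⟩
    have h5 := pow_orderOf_eq_one q
    rw [hq] at h5
    rw [pow_mul, h5, one_pow, mul_one, mul_inv_cancel] at h
    have h1 : orderOf (a q) = 5 := by rw [← hq]; exact orderOf_injective a.toMonoidHom a.injective q
    rw [h, orderOf_one] at h1
    omega
  have step : ∀ q s : S8, a q = s * q ^ k * s⁻¹ → D q → D (a q) := by
    intro q s h hD
    rw [h]
    exact (hD.pow hk).conj s
  have step' : ∀ q s : S8, orderOf q = 5 → a q = s * q ^ k * s⁻¹ → D (a q) → D q := by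
    intro q s ho h hD
    rw [h] at hD
    have h1 := hD.conj s⁻¹
    have h2 : s⁻¹ * (s * q ^ k * s⁻¹) * s⁻¹⁻¹ = q ^ k := by group
    rw [h2] at h1
    -- `q` is a power of `q ^ k`
    have h3 : ∃ l, ¬ 5 ∣ l ∧ k * l % 5 = 1 := by
      have h4 : k % 5 = 1 ∨ k % 5 = 2 ∨ k % 5 = 3 ∨ k % 5 = 4 := by omega
      rcases h4 with h4 | h4 | h4 | h4
      · exact ⟨1, by norm_num, by omega⟩
      · exact ⟨3, by norm_num, by omega⟩
      · exact ⟨2, by norm_num, by omega⟩
      · exact ⟨4, by norm_num, by omega⟩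
    obtain ⟨l, hl, hkl⟩ := h3
    have h4 := h1.pow hl
    have h5 : (q ^ k) ^ l = q := by
      have h6 := pow_orderOf_eq_one q
      rw [ho] at h6
      rw [← pow_mul, ← Nat.div_add_mod (k * l) 5, hkl, pow_add, pow_mul, h6, one_pow, one_mul, pow_one]
    rwa [h5] at h4
  obtain ⟨E, hE, hqE⟩ := exists_e25 hq
  have hq1 : q ≠ 1 := by
    rintro rfl
    rw [orderOf_one] at hq
    omega
  have h2 : a (a q) = a s * (a q) ^ k * (a s)⁻¹ := by
    conv_lhs => rw [h]
    rw [map_mul, map_mul, map_inv, map_pow]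
  have ho : orderOf (a q) = 5 := by rw [← hq]; exact orderOf_injective a.toMonoidHom a.injective q
  rcases cover hE ha ha' hqE hq1 with h3 | h3 | h3
  · exact move ha h3 (step q s h h3)
  · exact move ha (step' q s hq h h3) h3
  · exact move ha (step' (a q) (a s) ho h2 h3) h3

section K

variable {a : MulAut S8} (ha : a ∉ PO) (ha' : a * a ∉ PO) {K : Subgroup S8} (hK : ∀ k ∈ K, a k ∈ K)
  (h25 : 25 ∣ Nat.card K)

include h25 in
theorem exists_P : ∃ P : Subgroup K, Nat.card P = 25 ∧ E25 (P.map K.subtype) := by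
  haveI : Fact (Nat.Prime 5) := ⟨Nat.prime_five⟩
  obtain ⟨P, hP⟩ := Sylow.exists_subgroup_card_pow_prime 5 (n := 2) (G := K) (by simpa using h25)
  refine ⟨P, by rw [hP]; norm_num, e25_of_card ?_⟩
  rw [Subgroup.card_map_of_injective K.subtype_injective, hP]
  norm_num

include ha ha' hK h25 in
set_option maxHeartbeats 2000000 in
/-- no normal `5'`-subgroups -/
theorem no_core {N : Subgroup K} (hN : N.Normal) (h5 : ¬ 5 ∣ Nat.card N) : N = ⊥ := by
  haveI : Fact (Nat.Prime 5) := ⟨Nat.prime_five⟩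
  by_contra hne
  have h1 : Nat.card N ≠ 1 := fun h => hne (Subgroup.card_eq_one.1 h)
  obtain ⟨r, hr, hrd⟩ := Nat.exists_prime_and_dvd h1
  haveI : Fact r.Prime := ⟨hr⟩
  have hr5 : r ≠ 5 := by rintro rfl; exact h5 hrd
  obtain ⟨P, hP, hE⟩ := exists_P h25
  have hPc : ∀ x ∈ P, ∀ y ∈ P, x * y = y * x := by
    intro x hx y hy
    exact Subtype.ext (hE.comm _ ⟨x, hx, rfl⟩ _ ⟨y, hy, rfl⟩)
  haveI : IsMulCommutative P := ⟨⟨fun x y => Subtype.ext (hPc x x.2 y y.2)⟩⟩
  have hcop : (Nat.card P).Coprime (Nat.card N) := by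
    rw [hP, show (25 : ℕ) = 5 ^ 2 by norm_num]
    exact Nat.Coprime.pow_left _ ((Nat.Prime.coprime_iff_not_dvd Nat.prime_five).2 h5)
  have hsol : Group.IsSolvable P := by
    letI : CommGroup P := { (inferInstance : Group P) with mul_comm := fun x y => Subtype.ext (hPc x x.2 y y.2) }
    infer_instance
  obtain ⟨R, hR⟩ := S0023.result P N (Subgroup.le_normalizer_of_normal) hcop (Or.inl hsol) r
  set R' : Subgroup K := (R : Subgroup N).map N.subtype with hR'
  have hR'N : R' ≤ N := Subgroup.map_subtype_le _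
  have hRp : IsPGroup r R' := R.isPGroup'.map _
  have hcop' : (Nat.card P).Coprime (Nat.card R') :=
    Nat.Coprime.coprime_dvd_right (Subgroup.card_dvd_of_le hR'N) hcop
  have hcyc : ¬ IsCyclic P := by
    intro h
    obtain ⟨g, hg⟩ := h.exists_generator
    have h2 : orderOf g = 25 := by
      rw [← hP, ← Nat.card_zpowers]
      have : zpowers g = ⊤ := by rw [eq_top_iff]; exact fun x _ => hg x
      rw [this, Subgroup.card_top]
    have h3 : ((g : K) : S8) ^ 5 = 1 := hE.pow _ ⟨g, g.2, rfl⟩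
    have h4 : g ^ 5 = 1 := by
      apply Subtype.ext
      apply Subtype.ext
      exact h3
    have h5 := orderOf_dvd_of_pow_eq_one h4
    rw [h2] at h5
    exact absurd h5 (by norm_num)
  have hsup := S0058.result P R' hcyc hR hcop'
  have hbot : R' = ⊥ := by
    rw [← hsup, eq_bot_iff]
    refine iSup₂_le fun g hg => ?_
    obtain ⟨hgP, hg1⟩ := hg
    set N₀ : Subgroup K := R' ⊓ centralizer {g} with hN₀
    have hgE : (g : S8) ∈ P.map K.subtype := ⟨g, hgP, rfl⟩
    have hg1' : (g : S8) ≠ 1 := fun h => hg1 (Subtype.ext h)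
    have hN₀p : IsPGroup r N₀ := hRp.to_le inf_le_left
    have aux : ∀ β : MulAut S8, D (β g) → N₀ ≤ ⊥ := by
      intro β hβ
      have h2 : (N₀.map K.subtype).map β.toMonoidHom = ⊥ := by
        refine cent_trivial (hE.map β) (e := β g) ⟨_, hgE, rfl⟩ hβ hr5 ((hN₀p.map _).map _) ?_ ?_
        · rintro _ ⟨_, ⟨n, hn, rfl⟩, rfl⟩
          have h3 : g * n = n * g := by
            have := mem_centralizer_singleton_iff.1 hn.2
            exact this.symm
          show β (n : S8) * β (g : S8) = β (g : S8) * β (n : S8)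
          rw [← map_mul, ← map_mul]
          exact congrArg β (congrArg (fun u : K => (u : S8)) h3.symm)
        · rintro _ ⟨_, ⟨x, hx, rfl⟩, rfl⟩ _ ⟨_, ⟨n, hn, rfl⟩, rfl⟩
          refine ⟨_, ⟨x * n * x⁻¹, ?_, rfl⟩, ?_⟩
          · refine ⟨(mem_normalizer_iff.1 (hR hx) n).1 hn.1, ?_⟩
            show x * n * x⁻¹ ∈ centralizer {g}
            rw [mem_centralizer_singleton_iff]
            have h3 := mem_centralizer_singleton_iff.1 hn.2
            have h4 := hPc x hx g hgP
            have h5 : x⁻¹ * g = g * x⁻¹ := by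
              rw [inv_mul_eq_iff_eq_mul, ← mul_assoc, h4, mul_inv_cancel_right]
            calc x * n * x⁻¹ * g = x * n * (x⁻¹ * g) := by group
              _ = x * (n * g) * x⁻¹ := by rw [h5]; group
              _ = x * (g * n) * x⁻¹ := by rw [h3]
              _ = (x * g) * n * x⁻¹ := by group
              _ = g * (x * n * x⁻¹) := by rw [h4]; group
          · show β ((x * n * x⁻¹ : K) : S8) = β (x : S8) * β (n : S8) * (β (x : S8))⁻¹
            rw [← map_inv, ← map_mul, ← map_mul]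
            rfl
      rw [Subgroup.map_eq_bot_iff_of_injective _ β.injective,
        Subgroup.map_eq_bot_iff_of_injective _ K.subtype_injective] at h2
      exact h2.le
    rcases cover hE ha ha' hgE hg1' with h3 | h3 | h3
    · exact aux 1 h3
    · exact aux a h3
    · exact aux (a * a) h3
  rw [hR', Subgroup.map_eq_bot_iff_of_injective _ N.subtype_injective] at hbot
  exact R.ne_bot_of_dvd_card hrd hbot

include hK in
theorem exists_aK : ∃ b : MulAut K, ∀ k : K, (b k : S8) = a k := by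
  have h1 : K.map a.toMonoidHom = K := by
    refine Subgroup.eq_of_le_of_card_ge ?_ (by rw [Subgroup.card_map_of_injective a.injective])
    rintro _ ⟨k, hk, rfl⟩
    exact hK k hk
  exact ⟨(a.subgroupMap K).trans (MulEquiv.subgroupCongr h1), fun k => rfl⟩

/-- no normal subgroups of order `25` -/
theorem no_25 {z : K} (hz : orderOf z = 3) {Q : Subgroup K} (hQ : Q.Normal) (h : Nat.card Q = 25) : False := by
  have hE : E25 (Q.map K.subtype) := e25_of_card (by rw [Subgroup.card_map_of_injective K.subtype_injective, h])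
  refine hE.sit.no_three_norm (z := (z : S8)) (by rw [Subgroup.orderOf_coe, hz]) ?_
  rintro _ ⟨q, hq, rfl⟩
  exact ⟨z * q * z⁻¹, hQ.conj_mem q hq z, rfl⟩

include ha ha' hK in
/-- no normal subgroups of order `5` -/
theorem no_5 {z : K} (hz : orderOf z = 3) {Q : Subgroup K} (hQ : Q.Normal) (h : Nat.card Q = 5) : False := by
  haveI : Fact (Nat.Prime 5) := ⟨Nat.prime_five⟩
  obtain ⟨b, hb⟩ := exists_aK hK
  set Q' := Q.map b.toMonoidHom with hQ'
  have hQ'n : Q'.Normal := hQ.map _ b.surjective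
  have hQ'c : Nat.card Q' = 5 := by rw [hQ', Subgroup.card_map_of_injective b.injective, h]
  by_cases heq : Q' = Q
  · obtain ⟨q, hq⟩ := exists_prime_orderOf_dvd_card' (G := Q) 5 (by rw [h])
    have h1 : zpowers (q : K) = Q := by
      refine Subgroup.eq_of_le_of_card_ge (zpowers_le.2 q.2) ?_
      rw [Nat.card_zpowers, Subgroup.orderOf_coe, hq, h]
    have h2 : b (q : K) ∈ zpowers (q : K) := by
      have hmem : b (q : K) ∈ Q' := ⟨_, q.2, rfl⟩
      rw [h1]
      exact heq.le hmem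
    obtain ⟨k, hk⟩ := mem_powers_iff_mem_zpowers.2 h2
    refine no_fix5 ha ha' (q := ((q : K) : S8)) (s := 1) (k := k) (by rw [Subgroup.orderOf_coe, Subgroup.orderOf_coe, hq]) ?_
    rw [one_mul, inv_one, mul_one, ← hb, ← Subgroup.coe_pow]
    exact congrArg (fun u : K => (u : S8)) hk.symm
  · have h1 := card_sup_mul' (K := Q) (H := Q') (Subgroup.le_normalizer_of_normal)
    have h2 : Nat.card (Q ⊓ Q' : Subgroup K) = 1 := by
      have h3 : Nat.card (Q ⊓ Q' : Subgroup K) ∣ 5 := h ▸ Subgroup.card_dvd_of_le inf_le_left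
      rcases (Nat.dvd_prime Nat.prime_five).1 h3 with h4 | h4
      · exact h4
      · exfalso
        have h5 : Q ⊓ Q' = Q := Subgroup.eq_of_le_of_card_ge inf_le_left (by rw [h4, h])
        have h6 : Q ⊓ Q' = Q' := Subgroup.eq_of_le_of_card_ge inf_le_right (by rw [h4, hQ'c])
        exact heq (h6.symm.trans h5)
    rw [h2, h, hQ'c] at h1
    exact no_25 hz (Q := Q ⊔ Q') inferInstance (by omega)


variable (OT : OrdDiv.OrderTable.{0})
  (hS : ∀ (X : Type) [Group X] [Finite X] [IsSimpleGroup X], Cfsg.IsKnownSimple' X)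

include ha ha' hK h25 OT hS in
set_option maxHeartbeats 2000000 in
/-- **the invariant subgroups of order divisible by `25`** -/
theorem no_inv (ha3 : a ^ 3 = 1) (h7 : ¬ 7 ∣ Nat.card K) {z : K} (hz : orderOf z = 3) : False := by
  haveI : Fact (Nat.Prime 5) := ⟨Nat.prime_five⟩
  obtain ⟨b, hb⟩ := exists_aK hK
  have hb3 : ∀ k : K, b (b (b k)) = k := by
    intro k
    apply Subtype.ext
    rw [hb, hb, hb]
    have h1 : (a ^ 3) (k : S8) = a (a (a k)) := by rw [pow_succ, pow_two]; rfl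
    rw [← h1, ha3]
    rfl
  have hKdvd : Nat.card K ∣ 174182400 := by rw [← card_s8]; exact Subgroup.card_subgroup_dvd_card K
  have hnt : Nontrivial K := by
    rw [← Finite.one_lt_card_iff_nontrivial]
    exact lt_of_lt_of_le (by norm_num : 1 < 25) (Nat.le_of_dvd Nat.card_pos h25)
  obtain ⟨S, hSub, hSim⟩ := exists_simple_subnormal hnt
  have hSne : S ≠ ⊥ := (Subgroup.nontrivial_iff_ne_bot S).1 hSim.toNontrivial
  have h5S : 5 ∣ Nat.card S := by
    by_contra hcon
    obtain ⟨M, hM, hM1, hM2⟩ := subnormal_up (C := fun n => ¬ 5 ∣ n) (by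
      intro m n k hm hn hk h5
      rcases (Nat.Prime.dvd_mul Nat.prime_five).1 (h5.trans hk) with h | h
      · exact hm h
      · exact hn h) hSub ⟨S, le_rfl, Subgroup.le_normalizer, hSne, hcon⟩
    exact hM1 (no_core ha ha' hK h25 hM hM2)
  have hnoP : ∀ M : Subgroup K, M.Normal → M ≠ ⊥ → (∃ k, Nat.card M = 5 ^ k) → False := by
    rintro M hM hM1 ⟨k, hk⟩
    have h1 : k ≤ 2 := by
      by_contra hcon
      have h2 : 5 ^ 3 ∣ 5 ^ k := pow_dvd_pow 5 (by omega)
      exact absurd ((h2.trans (hk ▸ Subgroup.card_subgroup_dvd_card M)).trans hKdvd) (by norm_num)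
    have h2 : k ≠ 0 := by
      rintro rfl
      exact hM1 (Subgroup.card_eq_one.1 (by rw [hk, pow_zero]))
    have h3 : k = 1 ∨ k = 2 := by omega
    rcases h3 with rfl | rfl
    · exact no_5 ha ha' hK hz hM (by rw [hk, pow_one])
    · exact no_25 hz hM (by rw [hk]; norm_num)
  have hnc : ¬ ∀ x y : S, x * y = y * x := by
    intro hcomm
    letI : CommGroup S := { (inferInstance : Group S) with mul_comm := hcomm }
    have h1 : (Nat.card S).Prime := IsSimpleGroup.prime_card (α := S)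
    have h2 : Nat.card S = 5 := ((Nat.prime_dvd_prime_iff_eq Nat.prime_five h1).1 h5S).symm
    obtain ⟨M, hM, hM1, hM2⟩ := subnormal_up (C := fun n => ∃ k, n = 5 ^ k) (by
      rintro m n k ⟨i, rfl⟩ ⟨j, rfl⟩ hk
      rw [← pow_add] at hk
      obtain ⟨l, -, hl⟩ := (Nat.dvd_prime_pow Nat.prime_five).1 hk
      exact ⟨l, hl⟩) hSub ⟨S, le_rfl, Subgroup.le_normalizer, hSne, 1, by rw [h2, pow_one]⟩
    exact hnoP M hM hM1 hM2
  have hSdvd : Nat.card S ∣ 174182400 := (Subgroup.card_subgroup_dvd_card S).trans hKdvd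
  have h25S : ¬ 25 ∣ Nat.card S := by
    have h1 : Nat.card S ∈ tbl8 := H970.StabNum.mem_tbl OT hS (l := [(2, 12), (3, 5), (5, 2), (7, 1)])
      (N := 174182400) (by decide +kernel) (by decide +kernel) S hSim hnc hSdvd
    have h2 : ∀ s ∈ tbl8, ¬ 7 ∣ s → ¬ 25 ∣ s := by decide +kernel
    exact h2 _ h1 fun h => h7 (h.trans (Subgroup.card_subgroup_dvd_card S))
  have hnc' : ¬ IsMulCommutative S := fun h => hnc fun x y => h.is_comm.comm x y
  have hcomp : Cfsg.IsComponent S := ⟨hSub, H1.RankTwo.isQuasisimple_of_simple S hnc'⟩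
  have hcen : ∀ x ∈ S, (∀ y ∈ S, x * y = y * x) → x = 1 := by
    intro x hx hxy
    have h1 : (center S) = ⊥ := by
      rcases (inferInstance : (center S).Normal).eq_bot_or_eq_top with h | h
      · exact h
      · exfalso
        apply hnc
        intro u v
        have h2 : u ∈ center S := by rw [h]; trivial
        exact (mem_center_iff.1 h2 v).symm
    have h2 : (⟨x, hx⟩ : S) ∈ center S := by
      rw [mem_center_iff]
      intro y
      exact Subtype.ext (hxy y y.2).symm
    rw [h1] at h2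
    exact congrArg Subtype.val (Subgroup.mem_bot.1 h2)
  set S' := S.map b.toMonoidHom with hS'
  have hS'c : Nat.card S' = Nat.card S := Subgroup.card_map_of_injective b.injective
  rcases S1261.result S S' hcomp (hSub.map b.surjective) with h1 | h1
  · -- `S` is invariant
    have h2 : S = S' := Subgroup.eq_of_le_of_card_ge h1 (by rw [hS'c])
    obtain ⟨e, he⟩ := exists_prime_orderOf_dvd_card' (G := S) 5 h5S
    have h3' : b (e : K) ∈ S' := ⟨_, e.2, rfl⟩
    have h3 : b (e : K) ∈ S := h2.ge h3'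
    have h4 : orderOf (⟨b (e : K), h3⟩ : S) = 5 := by
      rw [← Subgroup.orderOf_coe]
      show orderOf (b (e : K)) = 5
      rw [← he, ← Subgroup.orderOf_coe e]
      exact orderOf_injective b.toMonoidHom b.injective _
    obtain ⟨c, hc⟩ := exists_conj (p := 5) (E := zpowers e) (k := 1) (by rw [Nat.card_zpowers, he, pow_one])
      (by norm_num; exact h25S) h4
    obtain ⟨k, hk⟩ := mem_powers_iff_mem_zpowers.2 hc
    refine no_fix5 ha ha' (q := ((e : K) : S8)) (s := ((c : K) : S8)⁻¹) (k := k)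
      (by rw [Subgroup.orderOf_coe, Subgroup.orderOf_coe, he]) ?_
    have h5 : (⟨b (e : K), h3⟩ : S) = c⁻¹ * e ^ k * c := by
      have h6 : e ^ k = c * ⟨b (e : K), h3⟩ * c⁻¹ := hk
      rw [h6]; group
    have h6 := congrArg (fun u : S => ((u : K) : S8)) h5
    simp only [Subgroup.coe_mul, Subgroup.coe_inv, Subgroup.coe_pow] at h6
    rw [hb] at h6
    rw [h6, inv_inv]
  · -- three commuting conjugates
    have c01 : ∀ x ∈ S, ∀ y ∈ S, x * b y = b y * x := by
      intro x hx y hy
      have h2 : ⁅x, b y⁆ ∈ ⁅S, S'⁆ := commutator_mem_commutator hx ⟨y, hy, rfl⟩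
      rw [h1, Subgroup.mem_bot, commutatorElement_eq_one_iff_mul_comm] at h2
      exact h2
    have c12 : ∀ x ∈ S, ∀ y ∈ S, b x * b (b y) = b (b y) * b x := by
      intro x hx y hy
      rw [← map_mul, ← map_mul, c01 x hx y hy]
    have c02 : ∀ x ∈ S, ∀ y ∈ S, x * b (b y) = b (b y) * x := by
      intro x hx y hy
      have h2 := c12 y hy x hx
      have h3 := congrArg b h2
      rw [map_mul, map_mul, hb3] at h3
      exact h3.symm
    set S'' := S'.map b.toMonoidHom with hS''
    have hS''c : Nat.card S'' = Nat.card S := (Subgroup.card_map_of_injective b.injective).trans hS'c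
    have d1 : Nat.card S' * Nat.card S'' ∣ Nat.card (centralizer (S : Set K)) := by
      refine mul_dvd ?_ ?_ ?_ ?_
      · rintro _ ⟨x, hx, rfl⟩
        rw [mem_centralizer_iff]
        intro y hy
        exact c01 y hy x hx
      · rintro _ ⟨_, ⟨x, hx, rfl⟩, rfl⟩
        rw [mem_centralizer_iff]
        intro y hy
        exact c02 y hy x hx
      · rintro _ ⟨x, hx, rfl⟩ _ ⟨_, ⟨y, hy, rfl⟩, rfl⟩
        exact c12 x hx y hy
      · rintro _ ⟨x, hx, rfl⟩ ⟨_, ⟨y, hy, rfl⟩, hxy⟩
        have h2 : b (b y) = b x := hxy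
        have h3 : x = 1 := by
          apply hcen x hx
          intro t ht
          apply b.injective
          rw [map_mul, map_mul, ← h2]
          exact (c12 t ht y hy).symm
        rw [h3]
        exact map_one b
    have d2 : Nat.card S * Nat.card (centralizer (S : Set K)) ∣ Nat.card (⊤ : Subgroup K) := by
      refine mul_dvd le_top le_top ?_ ?_
      · intro x hx y hy
        exact mem_centralizer_iff.1 hy x hx
      · intro x hx hx'
        apply hcen x hx
        intro y hy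
        exact (mem_centralizer_iff.1 hx' y hy).symm
    rw [hS'c, hS''c] at d1
    rw [Subgroup.card_top] at d2
    have d3 : 5 * (5 * 5) ∣ Nat.card K :=
      (mul_dvd_mul h5S (mul_dvd_mul h5S h5S)).trans ((Nat.mul_dvd_mul_left _ d1).trans d2)
    exact absurd (d3.trans hKdvd) (by norm_num)

end K

variable (OT : OrdDiv.OrderTable.{0})
  (hS : ∀ (X : Type) [Group X] [Finite X] [IsSimpleGroup X], Cfsg.IsKnownSimple' X)

include OT hS

/-- **part B** -/
theorem gt_three {a : MulAut S8} (ho : orderOf a = 3) (ha : a ∉ PO) : Gt a := by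
  have ha3 : a ^ 3 = 1 := by
    have := pow_orderOf_eq_one a
    rwa [ho] at this
  have ha' : a * a ∉ PO := by
    intro h
    apply ha
    have h1 : a = (a * a) * (a * a) := by
      calc a = a ^ 3 * a := by rw [ha3, one_mul]
        _ = (a * a) * (a * a) := by simp only [pow_succ, pow_zero, one_mul, mul_assoc]
    rw [h1]
    exact mul_mem h h
  obtain ⟨x, hx⟩ := exists_s (c := [36, 1, 103, 8, 7, 48, 4, 128]) (m := 15) (by decide +kernel) (by decide +kernel) rfl
  have hx3 : Rep (L ((x ^ 3 : S8) : G8)) (powN [36, 1, 103, 8, 7, 48, 4, 128] 3) := by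
    rw [Subgroup.coe_pow]; exact hx.pow 3
  have hx5 : Rep (L ((x ^ 5 : S8) : G8)) (powN [36, 1, 103, 8, 7, 48, 4, 128] 5) := by
    rw [Subgroup.coe_pow]; exact hx.pow 5
  have ho3 : orderOf (x ^ 3) = 5 := by
    rw [← Subgroup.orderOf_coe]
    exact hx3.order (by norm_num) (by decide +kernel)
  have ho5 : orderOf (x ^ 5) = 3 := by
    rw [← Subgroup.orderOf_coe]
    exact hx5.order (by norm_num) (by decide +kernel)
  have hv : (dec 8 : V8) ≠ 0 := dec_ne (by norm_num) (by norm_num)
  have hfix : L ((x ^ 3 : S8) : G8) (dec 8) = dec 8 := by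
    rw [hx3.app]
    congr 1
  have hD : D (x ^ 3) := ⟨ho3, _, hv, hfix⟩
  have hD' := move ha hD
  have hoa : orderOf (a (x ^ 3)) = 5 := by
    rw [← ho3]
    exact orderOf_injective a.toMonoidHom a.injective _
  refine ⟨x, fun K hxK hK => ?_⟩
  have h1 : x ^ 3 ∈ K := pow_mem hxK 3
  have h25 : 25 ∣ Nat.card K := by
    refine dvd25 h1 (hK _ h1) ho3 hoa hv hfix ?_
    intro w hw
    by_contra hw0
    exact hD' ⟨hoa, w, hw0, hw⟩
  by_cases h7 : 7 ∣ Nat.card K
  · exact key_s8 OT hS h7 h25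
  · exfalso
    exact no_inv ha ha' hK h25 OT hS ha3 h7 (z := ⟨x ^ 5, pow_mem hxK 5⟩) (by rw [Subgroup.orderOf_mk, ho5])

/-- **`Ω⁺₈(2)`** -/
theorem spr_o82 {F : Type} [Field F] [Fintype F] (hF : Fintype.card F = 2) :
    H424.Spr.Spr (POmega F (quadFormPlus 4 F)) :=
  (spr_s8 OT hS fun a h1 h2 => gt_three OT hS h1 h2).congr (e8.trans (El.pomCongr hF))

end Cfsg.Agent.H884.Oc
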