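import Cfsg.Agent.H884.Oc.PTwo
import Cfsg.Agent.H503.El.O8Main

/-!
# S3938, `Ω⁺₈(2)`: a proper subgroup has order prime to `7` or not divisible by `25` (helper884)
-/

set_option autoImplicit false
set_option maxRecDepth 100000
set_option linter.unusedSectionVars false
set_option linter.style.haveILetI false

namespace Cfsg.Agent.H884.Oc

open Subgroup Cfsg Cfsg.Agent Cfsg.Agent.H503 Cfsg.Agent.H503.El.O8 Cfsg.Agent.H503.El Cfsg.Agent.H57.BG
open Cfsg.Agent.H970.StabNum

variable (OT : OrdDiv.OrderTable.{0})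
  (hS : ∀ (X : Type) [Group X] [Finite X] [IsSimpleGroup X], Cfsg.IsKnownSimple' X)

theorem aux_mod {v p : ℕ} (hv : v ≤ 12) (hp : p = 2 ∨ p = 3 ∨ p = 5) (h : p ^ v ≡ 1 [MOD 7]) (h6 : p ≠ 2 → v ≤ 5) :
    v = 0 ∨ (p = 2 ∧ 3 ∣ v) := by
  rcases hp with rfl | rfl | rfl
  · right
    refine ⟨rfl, ?_⟩
    unfold Nat.ModEq at h
    interval_cases v <;> simp_all
  · left
    have := h6 (by norm_num)
    unfold Nat.ModEq at h
    interval_cases v <;> simp_all
  · left
    have := h6 (by norm_num)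
    unfold Nat.ModEq at h
    interval_cases v <;> simp_all

/-- `J₂` is not a subgroup -/
theorem no_j2 {X : Type} [Group X] [Finite X] (hJ : Spor.IsoJ2 X) (φ : X →* T8) (hφ : Function.Injective φ) :
    False := by
  obtain ⟨P, z, hP25, hP5, hPc, hz, hzP⟩ := Od8.j2_five hJ
  have h1 : Nat.card (P.map φ) = 25 := by rw [Subgroup.card_map_of_injective hφ, hP25]
  have h2 : ∀ g ∈ P.map φ, g ^ 5 = 1 := by
    rintro _ ⟨g, hg, rfl⟩
    rw [← map_pow, hP5 g hg, map_one]
  have h3 : ∀ g ∈ P.map φ, ∀ h ∈ P.map φ, g * h = h * g := by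
    rintro _ ⟨g, hg, rfl⟩ _ ⟨h, hh, rfl⟩
    rw [← map_mul, hPc g hg h hh, map_mul]
  have h4 : orderOf (φ z) = 3 := by rw [orderOf_injective φ hφ, hz]
  refine Od8.no_three8 h1 h2 h3 h4 ?_
  rintro _ ⟨g, hg, rfl⟩
  refine ⟨z * g * z⁻¹, hzP g hg, ?_⟩
  rw [map_mul, map_mul, map_inv]

include OT hS

set_option maxHeartbeats 1000000 in
/-- **the key lemma** -/
theorem key_t8 {R : Subgroup T8} (hR7 : 7 ∣ Nat.card R) (hR25 : 25 ∣ Nat.card R) : R = ⊤ := by
  classical
  haveI h7p : Fact (Nat.Prime 7) := ⟨by norm_num⟩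
  have hent : ∀ P : Subgroup T8, Nat.card P = 7 → Nat.card (centralizer (P : Set T8)) ∣ 7 * 1 ∧
      Nat.card (normalizer (P : Set T8)) ∣ 7 * 6 :=
    entry_of_ex (by norm_num) card_t8 (by norm_num) (by norm_num) (by decide +kernel)
      (H732.SelfCent.omega8plus_selfcent (F := ZMod 2) (ZMod.card 2))
  have hdT : Nat.card R ∣ 174182400 := by rw [← card_t8]; exact Subgroup.card_subgroup_dvd_card R
  have hR49 : ¬ 7 ^ 2 ∣ Nat.card R := fun h => absurd (h.trans hdT) (by norm_num)
  obtain ⟨x, hx⟩ := exists_prime_orderOf_dvd_card' 7 hR7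
  have hP : Nat.card (zpowers x) = 7 := by rw [Nat.card_zpowers, hx]
  have hPm : Nat.card ((zpowers x).map R.subtype) = 7 := by
    rw [← hP]
    exact (Nat.card_congr ((zpowers x).equivMapOfInjective _ R.subtype_injective).toEquiv).symm
  obtain ⟨L, hLn, A, hAn, hs, hA7, hPL, hcard, h7, D, m, hN, hDC, hDA, hpow⟩ := Struct.exists_struct' hP hR49
  have hC7 : Nat.card (centralizer ((zpowers x : Subgroup R) : Set R)) ∣ 7 :=
    (Fix.card_cent_map R.subtype_injective _).trans (by simpa using (hent _ hPm).1)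
  have hN42 : Nat.card (normalizer ((zpowers x : Subgroup R) : Set R)) ∣ 42 :=
    (Fix.card_norm_map R.subtype_injective _).trans (hent _ hPm).2
  have hD1 : D = 1 := by
    rcases (Nat.dvd_prime h7p.out).1 (hDC.trans hC7) with h3 | h3
    · exact h3
    · exact absurd (h3 ▸ hDA) hA7
  subst hD1
  have hcm6 : L.index * m ∣ 6 := by
    rw [hN] at hN42
    have h3 : L.index * m * 7 ∣ 6 * 7 := by
      have h4 : L.index * (1 * (7 * m)) = L.index * m * 7 := by ring
      rw [h4] at hN42
      exact hN42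
    exact Nat.dvd_of_mul_dvd_mul_right (by norm_num) h3
  have hc6 : L.index ∣ 6 := (Dvd.intro _ rfl).trans hcm6
  have hpow' : ∀ r : ℕ, r.Prime → r ^ ((Nat.card A).factorization r) ≡ 1 [MOD 7] := by
    intro r hr
    obtain ⟨j, hj, hj'⟩ := hpow r hr
    rwa [Nat.dvd_one.1 hj] at hj'
  -- Sylow
  have hsyl : ∃ n, Nat.card R = L.index * (1 * (7 * m)) * n ∧ n ≡ 1 [MOD 7] := by
    have h1 : IsPGroup 7 (zpowers x) := IsPGroup.of_card (n := 1) (by rw [hP, pow_one])
    obtain ⟨P, hPP⟩ := h1.exists_le_sylow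
    have hPe : zpowers x = P := by
      refine Subgroup.eq_of_le_of_card_ge hPP ?_
      rw [hP]
      obtain ⟨k, hk⟩ := IsPGroup.iff_card.1 P.isPGroup'
      rw [hk]
      have hk1 : k ≤ 1 := by
        by_contra hk2
        exact hR49 ((pow_dvd_pow 7 (by omega : 2 ≤ k)).trans (hk ▸ Subgroup.card_subgroup_dvd_card (P : Subgroup R)))
      calc 7 ^ k ≤ 7 ^ 1 := Nat.pow_le_pow_right (by norm_num) hk1
        _ = 7 := pow_one 7
    refine ⟨Nat.card (Sylow 7 R), ?_, card_sylow_modEq_one 7 R⟩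
    rw [← hN, hPe, Sylow.card_eq_index_normalizer P]
    exact (Subgroup.card_mul_index _).symm
  obtain ⟨n, hn, hn1⟩ := hsyl
  set a := Nat.card A with ha
  set s := Nat.card (L ⧸ A) with hsd
  set c := L.index with hc
  have ha0 : a ≠ 0 := (Nat.card_pos (α := A)).ne'
  have hadvd : a ∣ Nat.card R := ⟨s * c, by rw [hcard]; ring⟩
  have hsdvd : s ∣ Nat.card R := ⟨a * c, by rw [hcard]; ring⟩
  have hbound : ∀ p k : ℕ, p.Prime → ¬ p ^ (k + 1) ∣ 174182400 → a.factorization p ≤ k := by
    intro p k hp hk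
    by_contra h6
    exact hk (((hp.pow_dvd_iff_le_factorization ha0).2 (by omega)).trans (hadvd.trans hdT))
  have f2 := hbound 2 12 Nat.prime_two (by norm_num)
  have f3 := hbound 3 5 (by norm_num) (by norm_num)
  have f5 := hbound 5 2 (by norm_num) (by norm_num)
  have h3a : a.factorization 3 = 0 := by
    rcases aux_mod (p := 3) (by omega) (by norm_num) (hpow' 3 (by norm_num)) (by omega) with h | ⟨h, -⟩
    · exact h
    · exact absurd h (by norm_num)
  have h5a : a.factorization 5 = 0 := by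
    rcases aux_mod (p := 5) (by omega) (by norm_num) (hpow' 5 (by norm_num)) (by omega) with h | ⟨h, -⟩
    · exact h
    · exact absurd h (by norm_num)
  have h2a : 3 ∣ a.factorization 2 := by
    rcases aux_mod (p := 2) (by omega) (by norm_num) (hpow' 2 (by norm_num)) (by omega) with h | ⟨-, h⟩
    · rw [h]; exact dvd_zero 3
    · exact h
  have hn3 : ¬ 3 ∣ a := fun h => by
    have := ((by norm_num : Nat.Prime 3).dvd_iff_one_le_factorization ha0).1 h
    omega
  have hn5 : ¬ 5 ∣ a := fun h => by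
    have := ((by norm_num : Nat.Prime 5).dvd_iff_one_le_factorization ha0).1 h
    omega
  obtain ⟨k, hak, hk⟩ : ∃ k, a = 2 ^ k ∧ 3 ∣ k := by
    have h1 : a ∣ 2 ^ 12 * (3 ^ 5 * (5 ^ 2 * 7)) := (hadvd.trans hdT).trans (by norm_num)
    have c3 : Nat.Coprime a (3 ^ 5) := ((Nat.Prime.coprime_iff_not_dvd (by norm_num)).2 hn3).symm.pow_right 5
    have c5 : Nat.Coprime a (5 ^ 2) := ((Nat.Prime.coprime_iff_not_dvd (by norm_num)).2 hn5).symm.pow_right 2
    have c7 : Nat.Coprime a 7 := ((Nat.Prime.coprime_iff_not_dvd (by norm_num)).2 hA7).symm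
    have h2 : a ∣ 2 ^ 12 := Nat.Coprime.dvd_of_dvd_mul_right (c3.mul_right (c5.mul_right c7)) h1
    obtain ⟨k, -, hk⟩ := (Nat.dvd_prime_pow Nat.prime_two).1 h2
    refine ⟨k, hk, ?_⟩
    rw [hk, Nat.prime_two.factorization_pow, Finsupp.single_eq_same] at h2a
    exact h2a
  have h5c : ¬ 5 ∣ c := fun h3 => by
    have := h3.trans hc6
    omega
  have h25s : 25 ∣ s := by
    rw [hcard] at hR25
    have h3 : Nat.Coprime 25 a := by
      rw [show (25 : ℕ) = 5 ^ 2 by norm_num]
      exact Nat.Coprime.pow_left _ ((Nat.Prime.coprime_iff_not_dvd (by norm_num)).2 hn5)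
    have h4 : Nat.Coprime 25 c := by
      rw [show (25 : ℕ) = 5 ^ 2 by norm_num]
      exact Nat.Coprime.pow_left _ ((Nat.Prime.coprime_iff_not_dvd (by norm_num)).2 h5c)
    exact h3.dvd_of_dvd_mul_left (h4.dvd_of_dvd_mul_right hR25)
  have hna : ¬ ∀ u v : L ⧸ A, u * v = v * u := by
    intro hab
    letI : CommGroup (L ⧸ A) := { (inferInstance : Group (L ⧸ A)) with mul_comm := hab }
    have h3 : s.Prime := IsSimpleGroup.prime_card (α := L ⧸ A)
    have h4 : 7 = s := (Nat.prime_dvd_prime_iff_eq h7p.out h3).1 h7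
    omega
  have hsT : s ∣ 174182400 := hsdvd.trans hdT
  have hstbl : s ∈ tbl8 := mem_tbl OT hS (l := [(2, 12), (3, 5), (5, 2), (7, 1)]) (N := 174182400) (by decide +kernel)
    (by decide +kernel) (L ⧸ A) hs hna hsT
  have hs3 : s = 604800 ∨ s = 1814400 ∨ s = 174182400 := by
    have h3 : ∀ s ∈ tbl8, 25 ∣ s → s = 604800 ∨ s = 1814400 ∨ s = 174182400 := by decide +kernel
    exact h3 _ hstbl h25s
  rcases hs3 with hs6 | hs6 | hs6
  · -- order of `J₂`
    have hk3 : k = 0 ∨ k = 3 := by
      have h3 : a * 604800 ∣ 174182400 := by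
        rw [← hs6]
        exact (Dvd.intro c (by rw [hcard])).trans hdT
      rw [hak] at h3
      have h4 : k < 6 := by
        by_contra hcon
        have h5 : 2 ^ 6 * 604800 ∣ 2 ^ k * 604800 := Nat.mul_dvd_mul_right (pow_dvd_pow 2 (by omega)) _
        exact absurd (h5.trans h3) (by norm_num)
      omega
    rcases hk3 with hk0 | hk0
    · exfalso
      have ha1 : a = 1 := by rw [hak, hk0, pow_zero]
      have hAb : A = ⊥ := Subgroup.eq_bot_of_card_eq _ ha1
      obtain ⟨g, hg, hreal⟩ := OrdDiv.exists_real_filter OT (S := L ⧸ A) (hS _) hna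
        (l := [(2, 12), (3, 5), (5, 2), (7, 1)]) (N := 174182400) (by decide +kernel) hsT
        (fun o => o == 604800) (by rw [← hsd, hs6]; rfl)
      have hj : ((OrdDiv.cands [(2, 12), (3, 5), (5, 2), (7, 1)] 174182400).filter
          fun g => OrdDiv.ordN g == 604800).all (fun g => match g with
            | .j2 => true
            | _ => false) = true := by decide +kernel
      rw [List.all_eq_true] at hj
      have hj' := hj g hg
      have hJ : Spor.IsoJ2 (L ⧸ A) := by
        cases g <;> first | exact hreal | exact absurd hj' Bool.false_ne_true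
      subst hAb
      obtain ⟨φ, hφ⟩ : ∃ φ : (L ⧸ (⊥ : Subgroup L)) →* T8, Function.Injective φ := by
        refine ⟨(R.subtype.comp L.subtype).comp (QuotientGroup.quotientBot (G := L)).toMonoidHom, ?_⟩
        intro u v huv
        exact (QuotientGroup.quotientBot (G := L)).injective (L.subtype_injective (R.subtype_injective huv))
      exact no_j2 hJ φ hφ
    · exfalso
      have ha8 : a = 8 := by rw [hak, hk0]; norm_num
      refine Struct.no_ext A ha8 hs h7 (by rw [← hsd, hs6]; norm_num) ?_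
      intro u v hu huv
      have hu' : orderOf ((u : R) : T8) = 7 := by rw [Subgroup.orderOf_coe, Subgroup.orderOf_coe, hu]
      have h5 := selfcent hu' ((v : R) : T8) (congrArg (fun z : L => ((z : R) : T8)) huv.symm)
      rwa [Subgroup.orderOf_coe, Subgroup.orderOf_coe] at h5
  · -- order of `A₁₀`
    exfalso
    have hk3 : k = 0 ∨ k = 3 := by
      have h3 : a * 1814400 ∣ 174182400 := by
        rw [← hs6]
        exact (Dvd.intro c (by rw [hcard])).trans hdT
      rw [hak] at h3
      have h4 : k < 6 := by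
        by_contra hcon
        have h5 : 2 ^ 6 * 1814400 ∣ 2 ^ k * 1814400 := Nat.mul_dvd_mul_right (pow_dvd_pow 2 (by omega)) _
        exact absurd (h5.trans h3) (by norm_num)
      omega
    have h1 : m ∣ 6 := (Dvd.intro_left _ rfl).trans hcm6
    have hc0 : 0 < c := Nat.pos_of_ne_zero fun h => by rw [h] at hc6; omega
    have h2 : a * 1814400 = 7 * m * n := by
      have h3 : a * s * c = c * (1 * (7 * m)) * n := by rw [← hcard]; exact hn
      rw [hs6] at h3
      have h4 : c * (a * 1814400) = c * (7 * m * n) := by linarith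
      exact Nat.eq_of_mul_eq_mul_left hc0 h4
    have hm6 : m = 1 ∨ m = 2 ∨ m = 3 ∨ m = 6 := by
      have h3 := Nat.le_of_dvd (by norm_num) h1
      interval_cases m <;> simp_all
    unfold Nat.ModEq at hn1
    rcases hk3 with hk0 | hk0
    · rw [hak, hk0] at h2
      rcases hm6 with rfl | rfl | rfl | rfl <;> omega
    · rw [hak, hk0] at h2
      rcases hm6 with rfl | rfl | rfl | rfl <;> omega
  · refine Subgroup.eq_top_of_card_eq R ?_
    rw [card_t8]
    exact Nat.dvd_antisymm hdT (hs6 ▸ hsdvd)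

/-- on the matrix group -/
theorem key_s8 {R : Subgroup S8} (h7 : 7 ∣ Nat.card R) (h25 : 25 ∣ Nat.card R) : R = ⊤ := by
  have hc : Nat.card (R.map e8.toMonoidHom : Subgroup T8) = Nat.card R :=
    Subgroup.card_map_of_injective e8.injective
  have h1 := key_t8 OT hS (R := R.map e8.toMonoidHom) (by rwa [hc]) (by rwa [hc])
  rw [eq_top_iff]
  intro x _
  have h2 : e8 x ∈ R.map e8.toMonoidHom := by rw [h1]; trivial
  obtain ⟨y, hy, he⟩ := h2
  have h3 : y = x := e8.injective he
  rwa [← h3]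

end Cfsg.Agent.H884.Oc
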