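import Cfsg.Agent.H884.Oc.Reps
import Cfsg.Agent.H884.Oc.Key
import Cfsg.Agent.H424.Spr.Core

/-!
# S3938, `Ω⁺₈(2)`: the automorphism group (helper884)
-/

set_option autoImplicit false
set_option maxRecDepth 100000
set_option linter.unusedSectionVars false
set_option linter.style.haveILetI false
set_option linter.unusedVariables false

namespace Cfsg.Agent.H884.Oc

open Subgroup Cfsg Cfsg.Agent Cfsg.Agent.H503 Cfsg.Agent.H503.El.O8 Module

instance finS8 : Finite S8 := Finite.of_equiv T8 e8.symm.toEquiv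

theorem card_s8 : Nat.card S8 = 174182400 := (Nat.card_congr e8.toEquiv).trans card_t8

instance finAut : Finite (MulAut S8) := Finite.of_injective (fun a : MulAut S8 => (a : S8 → S8)) DFunLike.coe_injective

theorem card_aut : Nat.card (MulAut S8) = 6 * 174182400 := by
  rw [Nat.card_congr (MulAut.congr e8).toEquiv]
  haveI : Fact (Nat.Prime 2) := ⟨Nat.prime_two⟩
  have := S0817.result (F := ZMod 2) 2 1 le_rfl (by rw [ZMod.card]; norm_num) 4 le_rfl
  rw [if_pos rfl, if_pos rfl] at this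
  have h2 : Nat.card (POmega (ZMod 2) (quadFormPlus 4 (ZMod 2))) = 174182400 := card_t8
  rw [h2] at this
  exact this

/-- the automorphisms induced by isometries -/
noncomputable def PO : Subgroup (MulAut S8) := (MulAut.conjNormal : G8 →* MulAut S8).range

theorem conjNormal_injective : Function.Injective (MulAut.conjNormal : G8 →* MulAut S8) := by
  rw [injective_iff_map_eq_one]
  intro g hg
  have h1 : ∀ s ∈ Omega (ZMod 2) Q8, g * s = s * g := by
    intro s hs
    have h2 : (MulAut.conjNormal g : MulAut S8) ⟨s, hs⟩ = ⟨s, hs⟩ := by rw [hg]; rfl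
    have h3 := congrArg (fun u : S8 => (u : G8)) h2
    simp only [MulAut.conjNormal_apply] at h3
    rw [mul_inv_eq_iff_eq_mul] at h3
    exact h3
  have h2 : ∃ u : V8, u ≠ 0 ∧ QP u = 0 := ⟨dec 1, by decide +kernel, by
    show Q8 (dec 1) = 0
    decide +kernel⟩
  have h3 := LieClassical.OrthCenter.eq_one_or_neg_one_of_commute_omega (Q := QP) hnd8 (by simp) h2 g h1
  have h4 : ((g : GL I8 (ZMod 2)) : Matrix I8 I8 (ZMod 2)) = 1 := by
    rcases h3 with h3 | h3
    · exact h3
    · rw [h3]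
      ext i j
      rw [Matrix.neg_apply]
      exact CharTwo.neg_eq _
  exact Subtype.ext (Units.ext h4)

theorem card_po : Nat.card PO = 348364800 := by
  rw [← card_g8]
  exact (Nat.card_congr (MonoidHom.ofInjective conjNormal_injective).toEquiv).symm

theorem index_po : PO.index = 3 := by
  have h1 := PO.card_mul_index
  rw [card_po, card_aut] at h1
  omega

/-- good automorphisms -/
def Gt (a : MulAut S8) : Prop := ∃ x : S8, ∀ K : Subgroup S8, x ∈ K → (∀ k ∈ K, a k ∈ K) → K = ⊤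

theorem Gt.of_pow {a : MulAut S8} {n : ℕ} (h : Gt (a ^ n)) : Gt a := by
  obtain ⟨x, hx⟩ := h
  exact ⟨x, fun K hxK hK => hx K hxK (pow_mem_of hK n)⟩

theorem orderOf_conjNormal (g : G8) : orderOf (MulAut.conjNormal g : MulAut S8) = orderOf g :=
  orderOf_injective _ conjNormal_injective g

/-- elements of prime order of `PO` -/
theorem gd_of_mem {a : MulAut S8} (ha : a ∈ PO) (hp : (orderOf a).Prime) : Gd a := by
  obtain ⟨g, rfl⟩ := ha
  rw [orderOf_conjNormal] at hp
  have h1 : orderOf g ∣ 348364800 := by rw [← card_g8]; exact orderOf_dvd_natCard g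
  have h2 : orderOf g ∣ 2 ^ 13 * (3 ^ 5 * (5 ^ 2 * 7)) := h1.trans (by norm_num)
  have h3 : orderOf g = 2 ∨ orderOf g = 3 ∨ orderOf g = 5 ∨ orderOf g = 7 := by
    rcases hp.dvd_mul.1 h2 with h | h
    · exact Or.inl ((Nat.prime_dvd_prime_iff_eq hp Nat.prime_two).1 (hp.dvd_of_dvd_pow h))
    rcases hp.dvd_mul.1 h with h | h
    · exact Or.inr (Or.inl ((Nat.prime_dvd_prime_iff_eq hp Nat.prime_three).1 (hp.dvd_of_dvd_pow h)))
    rcases hp.dvd_mul.1 h with h | h
    · exact Or.inr (Or.inr (Or.inl ((Nat.prime_dvd_prime_iff_eq hp Nat.prime_five).1 (hp.dvd_of_dvd_pow h))))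
    · exact Or.inr (Or.inr (Or.inr ((Nat.prime_dvd_prime_iff_eq hp (by norm_num)).1 h)))
  rcases h3 with h | h | h | h
  · exact gg_two h
  · exact gg_three h
  · exact gg_five h
  · exact gg_seven h

/-- elements of prime order `≠ 3` -/
theorem gd_of_prime {a : MulAut S8} (hp : (orderOf a).Prime) (h3 : orderOf a ≠ 3) : Gd a := by
  haveI : Fact (orderOf a).Prime := ⟨hp⟩
  have h1 : IsPGroup (orderOf a) (zpowers a) := IsPGroup.of_card (n := 1) (by rw [Nat.card_zpowers, pow_one])
  have h2 : ¬ orderOf a ∣ Nat.card (MulAut S8 ⧸ PO) := by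
    rw [← Subgroup.index_eq_card, index_po]
    intro h
    exact h3 ((Nat.prime_dvd_prime_iff_eq hp Nat.prime_three).1 h)
  obtain ⟨q, hq⟩ := h1.nonempty_fixed_point_of_prime_not_dvd_card (MulAut S8 ⧸ PO) h2
  obtain ⟨b, rfl⟩ := QuotientGroup.mk_surjective q
  have h4 : b⁻¹ * a * b ∈ PO := by
    have h5 := hq ⟨a, mem_zpowers a⟩
    have h6 : ((a * b : MulAut S8) : MulAut S8 ⧸ PO) = (b : MulAut S8 ⧸ PO) := h5
    have h7 := QuotientGroup.eq.1 h6.symm
    rwa [← mul_assoc] at h7
  have h5 : orderOf (b⁻¹ * a * b) = orderOf a := by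
    have := orderOf_injective (MulAut.conj b⁻¹).toMonoidHom (MulAut.conj b⁻¹).injective a
    simpa using this
  have h6 := gd_of_mem h4 (by rw [h5]; exact hp)
  refine Gd.of_conj b⁻¹ ?_
  simpa using h6

variable (OT : OrdDiv.OrderTable.{0})
  (hS : ∀ (X : Type) [Group X] [Finite X] [IsSimpleGroup X], Cfsg.IsKnownSimple' X)

include OT hS

theorem Gd.gt {a : MulAut S8} (h : Gd a) : Gt a := by
  obtain ⟨x, hx⟩ := h
  exact ⟨x, fun K h1 h2 => key_s8 OT hS (hx K h1 h2).1 (hx K h1 h2).2⟩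

/-- the reduction to part B -/
theorem spr_s8 (hB : ∀ a : MulAut S8, orderOf a = 3 → a ∉ PO → Gt a) : H424.Spr.Spr S8 := by
  intro a ha
  have h1 : orderOf a ≠ 1 := fun h => ha (orderOf_eq_one_iff.1 h)
  obtain ⟨p, hp, hd⟩ := Nat.exists_prime_and_dvd h1
  have h2 : orderOf (a ^ (orderOf a / p)) = p := orderOf_pow_orderOf_div (orderOf_pos a).ne' hd
  suffices h : Gt (a ^ (orderOf a / p)) from h.of_pow
  by_cases h3 : p = 3
  · by_cases h4 : a ^ (orderOf a / p) ∈ PO
    · exact (gd_of_mem h4 (by rw [h2]; exact hp)).gt OT hS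
    · exact hB _ (by rw [h2, h3]) h4
  · exact (gd_of_prime (by rw [h2]; exact hp) (by rw [h2]; exact h3)).gt OT hS

end Cfsg.Agent.H884.Oc
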