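import Cfsg.Agent.H884.Oc.Tri8

/-!
# S3938, `Ω⁺₈(2)`: groups of order `25` and the automorphisms outside `PO` (helper884)
-/

set_option autoImplicit false
set_option maxRecDepth 100000
set_option linter.unusedSectionVars false
set_option linter.style.haveILetI false
set_option linter.unusedVariables false

namespace Cfsg.Agent.H884.Oc

open Subgroup Cfsg Cfsg.Agent Cfsg.Agent.H503 Cfsg.Agent.H503.El.O8 Module
open Cfsg.Agent.H884.Od8

attribute [local instance] act8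

/-- the vectors as a multiplicative group -/
abbrev MV : Type := Multiplicative V8

theorem smul_eq (g : S8) (v : MV) : g • v = Multiplicative.ofAdd (L g (Multiplicative.toAdd v)) := by
  rw [smul_def, L_apply]; rfl

/-- **automorphisms outside `PO` move the class** -/
theorem move {a : MulAut S8} (ha : a ∉ PO) {e : S8} (he : D e) : ¬ D (a e) := by
  intro hae
  obtain ⟨A, -, hA, hcl⟩ := exists_D
  have hconj : ∀ d d' : S8, D d → D d' → ∃ s : S8, s * d * s⁻¹ = d' := by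
    intro d d' hd hd'
    obtain ⟨s, hs⟩ := hcl d hd
    obtain ⟨s', hs'⟩ := hcl d' hd'
    refine ⟨s' * s⁻¹, ?_⟩
    rw [← hs, ← hs']
    group
  let H : Subgroup (MulAut S8) :=
    { carrier := {b | ∀ d, D (b d) ↔ D d}
      one_mem' := fun d => Iff.rfl
      mul_mem' := fun {b c} hb hc d => (hb (c d)).trans (hc d)
      inv_mem' := fun {b} hb d => by
        have := hb (b⁻¹ d)
        rw [show b (b⁻¹ d) = d from b.apply_symm_apply d] at this
        exact this.symm }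
  have hPO : PO ≤ H := by
    rintro _ ⟨g, rfl⟩ d
    refine ⟨fun h => ?_, fun h => h.conjG g⟩
    have h1 := h.conjG g⁻¹
    have h2 : (MulAut.conjNormal g⁻¹ : MulAut S8) ((MulAut.conjNormal g : MulAut S8) d) = d := by
      rw [map_inv]
      exact (MulAut.conjNormal g : MulAut S8).symm_apply_apply d
    rwa [h2] at h1
  have haH : a ∈ H := by
    intro d
    constructor
    · intro hd
      obtain ⟨s, hs⟩ := hconj _ _ hae hd
      have h1 : d = a⁻¹ s * e * (a⁻¹ s)⁻¹ := by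
        apply a.injective
        rw [map_mul, map_mul, map_inv]
        rw [show a (a⁻¹ s) = s from a.apply_symm_apply s, hs]
      rw [h1]
      exact he.conj _
    · intro hd
      obtain ⟨s, hs⟩ := hconj _ _ he hd
      rw [← hs, map_mul, map_mul, map_inv]
      exact hae.conj _
  have h1 : H.index ∣ 3 := by
    rw [← index_po]
    exact Subgroup.index_dvd_of_le hPO
  have hH : H = ⊤ := by
    rcases (Nat.dvd_prime Nat.prime_three).1 h1 with h2 | h2
    · exact Subgroup.index_eq_one.1 h2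
    · exfalso
      have h3 : PO = H := by
        refine Subgroup.eq_of_le_of_card_ge hPO ?_
        have h4 := PO.card_mul_index
        have h5 := H.card_mul_index
        rw [index_po] at h4
        rw [h2] at h5
        omega
      exact ha (h3 ▸ haH)
  obtain ⟨τ, e', he', hτ⟩ := exists_tri
  have h2 : τ ∈ H := by rw [hH]; trivial
  exact hτ ((h2 e').2 he')

/-- subgroups of order `25` -/
structure E25 (E : Subgroup S8) : Prop where
  card : Nat.card E = 25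
  pow : ∀ g ∈ E, g ^ 5 = 1
  comm : ∀ g ∈ E, ∀ h ∈ E, g * h = h * g

theorem E25.sit {E : Subgroup S8} (h : E25 E) : Sit QQ E := sit8 E h.card h.pow h.comm

theorem E25.map {E : Subgroup S8} (h : E25 E) (b : MulAut S8) : E25 (E.map b.toMonoidHom) where
  card := by rw [Subgroup.card_map_of_injective b.injective, h.card]
  pow := by
    rintro _ ⟨g, hg, rfl⟩
    show (b g) ^ 5 = 1
    rw [← map_pow, h.pow g hg, map_one]
  comm := by
    rintro _ ⟨g, hg, rfl⟩ _ ⟨k, hk, rfl⟩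
    show b g * b k = b k * b g
    rw [← map_mul, h.comm g hg k hk, map_mul]

theorem mv_card : Nat.card MV = 256 := card_v8

/-- the class in terms of the fixed vectors -/
theorem D_iff {g : S8} (ho : orderOf g = 5) : D g ↔ Nat.card (fx MV g) = 16 := by
  have hc := card_fx (V := MV) mv_card (fun g hg => by
    have h1 : rho g = 1 := El.actOf_basis rho g fun i => hg _
    exact rho_injective (h1.trans (map_one _).symm)) ho
  constructor
  · rintro ⟨-, v, hv, hgv⟩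
    rcases hc with h | h
    · exfalso
      have h1 := Subgroup.card_eq_one.1 h
      have h2 : (Multiplicative.ofAdd v : MV) ∈ fx MV g := by
        show g • (Multiplicative.ofAdd v : MV) = Multiplicative.ofAdd v
        rw [smul_eq]
        exact congrArg _ hgv
      rw [h1] at h2
      exact hv h2
    · exact h
  · intro h
    refine ⟨ho, ?_⟩
    have h1 : fx MV g ≠ ⊥ := by
      intro h2
      rw [h2, Subgroup.card_bot] at h
      omega
    obtain ⟨⟨v, hv⟩, hv1'⟩ := Subgroup.ne_bot_iff_exists_ne_one.1 h1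
    have hv1 : v ≠ 1 := fun h => hv1' (Subtype.ext h)
    refine ⟨Multiplicative.toAdd v, fun h => hv1 h, ?_⟩
    have h3 : g • v = v := hv
    rw [smul_eq] at h3
    exact congrArg Multiplicative.toAdd h3

theorem E25.order {E : Subgroup S8} (h : E25 E) {g : S8} (hg : g ∈ E) (h1 : g ≠ 1) : orderOf g = 5 :=
  h.sit.order hg h1

theorem ncard_D {E : Subgroup S8} (h : E25 E) : {g : S8 | g ∈ E ∧ g ≠ 1 ∧ D g}.ncard = 8 := by
  have h1 := h.sit.card_special'
  rw [← h1]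
  show Nat.card _ = Nat.card _
  exact Nat.card_congr (Equiv.subtypeEquivRight fun g =>
    ⟨fun hg => ⟨hg.1, hg.2.1, (D_iff (h.order hg.1 hg.2.1)).1 hg.2.2⟩,
      fun hg => ⟨hg.1, hg.2.1, (D_iff (h.order hg.1 hg.2.1)).2 hg.2.2⟩⟩)

/-- the three classes cover -/
theorem cover {E : Subgroup S8} (h : E25 E) {a : MulAut S8} (ha : a ∉ PO) (ha' : a * a ∉ PO) {g : S8} (hg : g ∈ E)
    (hg1 : g ≠ 1) : D g ∨ D (a g) ∨ D (a (a g)) := by
  have hcard : ∀ b : MulAut S8, {g : S8 | g ∈ E ∧ g ≠ 1 ∧ D (b g)}.ncard = 8 := by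
    intro b
    rw [← ncard_D (h.map b)]
    show Nat.card _ = Nat.card _
    refine Nat.card_congr ⟨fun g => ⟨b g.1, ⟨_, g.2.1, rfl⟩, ?_, g.2.2.2⟩, fun g => ⟨b.symm g.1, ?_, ?_, ?_⟩,
      fun g => Subtype.ext (b.symm_apply_apply _), fun g => Subtype.ext (b.apply_symm_apply _)⟩
    · intro h1
      exact g.2.2.1 (b.injective (h1.trans (map_one b).symm))
    · obtain ⟨k, hk, hk'⟩ := g.2.1
      have h1 : b.symm g.1 = k := by rw [← hk']; exact b.symm_apply_apply k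
      rw [h1]; exact hk
    · intro h1
      apply g.2.2.1
      rw [← b.apply_symm_apply g.1, h1, map_one]
    · rw [b.apply_symm_apply]
      exact g.2.2.2
  set S0 := {g : S8 | g ∈ E ∧ g ≠ 1 ∧ D g} with hS0
  set S1 := {g : S8 | g ∈ E ∧ g ≠ 1 ∧ D (a g)} with hS1
  set S2 := {g : S8 | g ∈ E ∧ g ≠ 1 ∧ D (a (a g))} with hS2
  have c0 : S0.ncard = 8 := hcard 1
  have c1 : S1.ncard = 8 := hcard a
  have c2 : S2.ncard = 8 := hcard (a * a)
  have d01 : Disjoint S0 S1 := Set.disjoint_left.2 fun g h0 h1 => move ha h0.2.2 h1.2.2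
  have d12 : Disjoint S1 S2 := Set.disjoint_left.2 fun g h0 h1 => move ha h0.2.2 h1.2.2
  have d02 : Disjoint S0 S2 := Set.disjoint_left.2 fun g h0 h1 => move ha' h0.2.2 h1.2.2
  have hW : {g : S8 | g ∈ E ∧ g ≠ 1}.ncard = 24 := by
    have h1 : {g : S8 | g ∈ E ∧ g ≠ 1} = (E : Set S8) \ {1} := by
      ext g
      simp
    rw [h1, Set.ncard_sdiff_singleton_of_mem (one_mem E)]
    have h2 : (E : Set S8).ncard = 25 := h.card
    rw [h2]
  have hU : (S0 ∪ (S1 ∪ S2)).ncard = 24 := by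
    rw [Set.ncard_union_eq (Set.disjoint_union_right.2 ⟨d01, d02⟩), Set.ncard_union_eq d12, c0, c1, c2]
  have hsub : S0 ∪ (S1 ∪ S2) ⊆ {g : S8 | g ∈ E ∧ g ≠ 1} := by
    rintro g (h1 | h1 | h1)
    · exact ⟨h1.1, h1.2.1⟩
    · exact ⟨h1.1, h1.2.1⟩
    · exact ⟨h1.1, h1.2.1⟩
  have heq := Set.eq_of_subset_of_ncard_le hsub (by rw [hU, hW])
  have hgm : g ∈ S0 ∪ (S1 ∪ S2) := by rw [heq]; exact ⟨hg, hg1⟩
  rcases hgm with h1 | h1 | h1
  · exact Or.inl h1.2.2
  · exact Or.inr (Or.inl h1.2.2)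
  · exact Or.inr (Or.inr h1.2.2)

theorem dvd16 {n : ℕ} (h : n ∣ 16) (hm : 1 ≡ n [MOD 5]) (h1 : n ≠ 1) : n = 16 := by
  obtain ⟨j, hj, rfl⟩ := (Nat.dvd_prime_pow Nat.prime_two (m := 4)).1 (h.trans (by norm_num : (16 : ℕ) ∣ 2 ^ 4))
  unfold Nat.ModEq at hm
  interval_cases j <;> simp_all

/-- a fixed point in an invariant set -/
theorem exists_fixed {N X : Type*} [Group N] [MulAction N X] [Finite X] {r : ℕ} [Fact r.Prime] (hN : IsPGroup r N)
    (P : X → Prop) (hP : ∀ (n : N) (x : X), P x → P (n • x)) (hc : ¬ r ∣ Nat.card {x : X // P x}) :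
    ∃ x, P x ∧ ∀ n : N, n • x = x := by
  let M : SubMulAction N X := { carrier := {v | P v}, smul_mem' := fun g v hv => hP g v hv }
  obtain ⟨v, hv⟩ := hN.nonempty_fixed_point_of_prime_not_dvd_card M hc
  exact ⟨v.1, v.2, fun n => congrArg Subtype.val (hv n)⟩

/-- a group of order prime to `5` (a `p`-group) acts trivially on a subspace of `16` elements -/
theorem fix_all {W : Subgroup MV} (hW : Nat.card W = 16) {N : Subgroup S8} {r : ℕ} [Fact r.Prime] (hr : r ≠ 5)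
    (hN : IsPGroup r N) (hNW : ∀ n ∈ N, ∀ v ∈ W, n • v ∈ W) {x : S8} (hx : orderOf x = 5)
    (hxW : ∀ v ∈ W, x • v ∈ W) (hbot : W ⊓ fx MV x = ⊥) (hxN : ∀ n ∈ N, x⁻¹ * n * x ∈ N)
    (h5 : Nat.card {v : MV // v ∈ W ∧ v ≠ 1 ∧ QQ v = 0} = 5) : ∀ n ∈ N, W ≤ fx MV n := by
  obtain ⟨v₁, ⟨hv₁W, hv₁1, -⟩, hv₁⟩ := exists_fixed hN (fun v : MV => v ∈ W ∧ v ≠ 1 ∧ QQ v = 0) (by
      rintro n v ⟨h1, h2, h3⟩
      refine ⟨hNW n n.2 v h1, fun h => h2 ?_, ?_⟩
      · have h4 : (n : S8) • v = 1 := h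
        rw [← inv_smul_smul (n : S8) v, h4, smul_one]
      · rw [← h3]
        exact rho_iso (n : S8) _) (by
      rw [h5]
      intro h
      exact hr ((Nat.prime_dvd_prime_iff_eq Fact.out Nat.prime_five).1 h))
  let U : Subgroup MV :=
    { carrier := {v | v ∈ W ∧ ∀ n ∈ N, n • v = v}
      one_mem' := ⟨one_mem _, fun n _ => smul_one n⟩
      mul_mem' := by
        rintro u v ⟨hu, hu'⟩ ⟨hv, hv'⟩
        exact ⟨mul_mem hu hv, fun n hn => by rw [smul_mul', hu' n hn, hv' n hn]⟩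
      inv_mem' := by
        rintro u ⟨hu, hu'⟩
        exact ⟨inv_mem hu, fun n hn => by rw [smul_inv', hu' n hn]⟩ }
  have hUW : U ≤ W := fun v hv => hv.1
  have hUx : ∀ v ∈ U, x • v ∈ U := by
    rintro v ⟨hv, hv'⟩
    refine ⟨hxW v hv, fun n hn => ?_⟩
    have h1 := hv' _ (hxN n hn)
    rw [mul_smul, mul_smul, inv_smul_eq_iff] at h1
    exact h1
  have h1 := card_inv_mod (by norm_num) hx U hUx
  have h2 : U ⊓ fx MV x = ⊥ := by
    rw [eq_bot_iff, ← hbot]
    exact inf_le_inf_right _ hUW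
  rw [h2, Subgroup.card_bot] at h1
  have h3 : Nat.card U ≠ 1 := by
    intro h
    have h4 := Subgroup.card_eq_one.1 h
    have h5 : v₁ ∈ U := ⟨hv₁W, fun n hn => hv₁ ⟨n, hn⟩⟩
    rw [h4] at h5
    exact hv₁1 h5
  have h4 := dvd16 (hW ▸ Subgroup.card_dvd_of_le hUW) h1.symm h3
  have h5 : U = W := Subgroup.eq_of_le_of_card_ge hUW (by rw [h4, hW])
  intro n hn v hv
  rw [← h5] at hv
  exact hv.2 n hn

/-- the complement of the fixed vectors -/
theorem inv_compl {x₁ x₂ n : S8} (h16 : Nat.card (fx MV x₁) = 16)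
    (h16' : Nat.card (fx MV x₂) = 16) (hbot : fx MV x₁ ⊓ fx MV x₂ = ⊥) (hc : x₁ * x₂ = x₂ * x₁)
    (hn : n * x₁ = x₁ * n) {v : MV} (hv : v ∈ fx MV x₂) : n • v ∈ fx MV x₂ := by
  have h3 : (fx MV x₁).IsComplement' (fx MV x₂) :=
    Subgroup.isComplement'_of_card_mul_and_disjoint (by rw [h16, h16', mv_card]) (disjoint_iff.2 hbot)
  have hδ : ∀ u : MV, x₁ • u * u⁻¹ ∈ fx MV x₂ := by
    intro u
    have h4 : u ∈ fx MV x₁ ⊔ fx MV x₂ := by rw [h3.sup_eq_top]; trivial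
    obtain ⟨u₁, hu₁, u₂, hu₂, rfl⟩ := Subgroup.mem_sup.1 h4
    have h5 : x₁ • (u₁ * u₂) * (u₁ * u₂)⁻¹ = x₁ • u₂ * u₂⁻¹ := by
      rw [smul_mul', show x₁ • u₁ = u₁ from hu₁, mul_inv_rev, mul_comm u₁, mul_assoc, mul_comm u₂⁻¹, ← mul_assoc u₁,
        mul_inv_cancel, one_mul]
    rw [h5]
    exact mul_mem (fx_smul hc hu₂) (inv_mem hu₂)
  let f : fx MV x₂ → fx MV x₂ := fun u => ⟨_, hδ u⟩
  have hf : Function.Injective f := by
    intro u u' h
    have h4 : x₁ • (u : MV) * (u : MV)⁻¹ = x₁ • (u' : MV) * (u' : MV)⁻¹ := congrArg Subtype.val h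
    have h5 : (u : MV) * (u' : MV)⁻¹ ∈ fx MV x₁ ⊓ fx MV x₂ := by
      refine Subgroup.mem_inf.2 ⟨?_, mul_mem u.2 (inv_mem u'.2)⟩
      show x₁ • ((u : MV) * (u' : MV)⁻¹) = _
      rw [smul_mul', smul_inv']
      have key : ∀ p q s t : MV, p * s⁻¹ = q * t⁻¹ → p * q⁻¹ = s * t⁻¹ := by
        intro p q s t h
        have h1 : p = q * t⁻¹ * s := by rw [← h, inv_mul_cancel_right]
        calc p * q⁻¹ = (q * (t⁻¹ * s)) * q⁻¹ := by rw [h1, mul_assoc q]
          _ = ((t⁻¹ * s) * q) * q⁻¹ := by rw [mul_comm q]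
          _ = t⁻¹ * s := mul_inv_cancel_right _ _
          _ = s * t⁻¹ := mul_comm _ _
      exact key _ _ _ _ h4
    rw [hbot] at h5
    exact Subtype.ext (mul_inv_eq_one.1 h5)
  obtain ⟨u, hu⟩ := (Finite.injective_iff_surjective.1 hf) ⟨v, hv⟩
  have h4 : x₁ • (u : MV) * (u : MV)⁻¹ = v := congrArg Subtype.val hu
  have h5 : n • v = x₁ • (n • (u : MV)) * (n • (u : MV))⁻¹ := by
    rw [← h4, smul_mul', smul_inv', ← mul_smul, ← mul_smul, hn]
  rw [h5]
  exact hδ _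


theorem card_sing' {x : S8} (hx : orderOf x = 5) (h16 : Nat.card (fx MV x) = 16) :
    Nat.card {v : MV // v ∈ fx MV x ∧ v ≠ 1 ∧ QQ v = 0} = 5 := by
  rw [← card_sing ((D_iff hx).2 h16)]
  refine Nat.card_congr (Equiv.subtypeEquiv Multiplicative.toAdd fun v => ?_)
  constructor
  · rintro ⟨h1, h2, h3⟩
    refine ⟨fun h => h2 h, ?_, h3⟩
    have h4 : x • v = v := h1
    rw [smul_eq] at h4
    exact congrArg Multiplicative.toAdd h4
  · rintro ⟨h1, h2, h3⟩
    refine ⟨?_, fun h => h1 h, h3⟩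
    show x • v = v
    rw [smul_eq, h2]; rfl

/-- the case of a special pair -/
theorem cent_pair {E : Subgroup S8} (h : E25 E) {x₁ x₂ : S8} (hx₁ : x₁ ∈ E) (hx₂ : x₂ ∈ E) (h1 : x₁ ≠ 1)
    (h2 : x₂ ≠ 1) (h16 : Nat.card (fx MV x₁) = 16) (h16' : Nat.card (fx MV x₂) = 16)
    (hbot : fx MV x₁ ⊓ fx MV x₂ = ⊥) {N : Subgroup S8} {r : ℕ} [Fact r.Prime] (hr : r ≠ 5) (hN : IsPGroup r N)
    (hc : ∀ n ∈ N, n * x₁ = x₁ * n) (hE : ∀ g ∈ E, ∀ n ∈ N, g * n * g⁻¹ ∈ N) : N = ⊥ := by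
  have hxx := h.comm x₁ hx₁ x₂ hx₂
  have ho₁ := h.order hx₁ h1
  have ho₂ := h.order hx₂ h2
  have hinv : ∀ x ∈ E, ∀ n ∈ N, x⁻¹ * n * x ∈ N := by
    intro x hx n hn
    have := hE x⁻¹ (inv_mem hx) n hn
    rwa [inv_inv] at this
  have k1 : ∀ n ∈ N, fx MV x₁ ≤ fx MV n :=
    fix_all h16 hr hN (fun n hn v hv => fx_smul (hc n hn) hv) ho₂ (fun v hv => fx_smul hxx.symm hv) hbot
      (hinv x₂ hx₂) (card_sing' ho₁ h16)
  have k2 : ∀ n ∈ N, fx MV x₂ ≤ fx MV n :=
    fix_all h16' hr hN (fun n hn v hv => inv_compl h16 h16' hbot hxx (hc n hn) hv) ho₁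
      (fun v hv => fx_smul hxx hv) (by rw [inf_comm]; exact hbot) (hinv x₁ hx₁) (card_sing' ho₂ h16')
  rw [eq_bot_iff]
  intro n hn
  exact eq_one_of_le mv_card h.sit.faith h16 h16' hbot (k1 n hn) (k2 n hn)

/-- **centralisers of elements of the class** -/
theorem cent_trivial {E : Subgroup S8} (h : E25 E) {e : S8} (he : e ∈ E) (hD : D e) {N : Subgroup S8} {r : ℕ}
    [Fact r.Prime] (hr : r ≠ 5) (hN : IsPGroup r N) (hc : ∀ n ∈ N, n * e = e * n)
    (hE : ∀ g ∈ E, ∀ n ∈ N, g * n * g⁻¹ ∈ N) : N = ⊥ := by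
  obtain ⟨x₁, hx₁, x₂, hx₂, h1, h2, hne, h16, h16', hbot, hall⟩ := h.sit.exists_pair
  have he1 : e ≠ 1 := by
    rintro rfl
    have := hD.1
    rw [orderOf_one] at this
    omega
  have key : ∀ x ∈ E, x ≠ 1 → e ∈ zpowers x → ∀ n ∈ N, n * x = x * n := by
    intro x hx hx1 hex n hn
    have ho := h.order hx hx1
    have h3 : zpowers e = zpowers x := by
      refine Subgroup.eq_of_le_of_card_ge (zpowers_le.2 hex) ?_
      rw [Nat.card_zpowers, Nat.card_zpowers, ho, hD.1]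
    have h4 : x ∈ zpowers e := by rw [h3]; exact mem_zpowers x
    obtain ⟨k, rfl⟩ := mem_zpowers_iff.1 h4
    exact ((show Commute n e from hc n hn).zpow_right k).eq
  rcases hall e he he1 ((D_iff hD.1).1 hD) with h3 | h3
  · exact cent_pair h hx₁ hx₂ h1 h2 h16 h16' hbot hr hN (key x₁ hx₁ h1 h3) hE
  · exact cent_pair h hx₂ hx₁ h2 h1 h16' h16 (by rw [inf_comm]; exact hbot) hr hN (key x₂ hx₂ h2 h3) hE

end Cfsg.Agent.H884.Oc
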