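import Cfsg.Agent.H884.Oc.Code
import Cfsg.Agent.H957.Bridge

/-!
# S3938, `Ω⁺₈(2)`: certificates for generation (helper884)
-/

set_option autoImplicit false
set_option maxRecDepth 100000
set_option linter.unusedSectionVars false
set_option linter.style.haveILetI false

namespace Cfsg.Agent.H884.Oc

open Subgroup Cfsg Cfsg.Agent Cfsg.Agent.H503 Cfsg.Agent.H503.El.O8

/-- the linear map of an isometry -/
noncomputable def L (g : G8) : V8 →ₗ[ZMod 2] V8 := Matrix.toLin' ((g : GL I8 (ZMod 2)) : Matrix I8 I8 (ZMod 2))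

theorem L_apply (g : G8) (v : V8) : L g v = ((g : GL I8 (ZMod 2)) : Matrix I8 I8 (ZMod 2)).mulVec v :=
  Matrix.toLin'_apply _ _

theorem L_mul (g h : G8) : L (g * h) = L g ∘ₗ L h := by
  unfold L
  rw [Subgroup.coe_mul, Units.val_mul, Matrix.toLin'_mul]

theorem L_one : L 1 = LinearMap.id := by
  unfold L
  rw [Subgroup.coe_one, Units.val_one, Matrix.toLin'_one]

theorem L_injective : Function.Injective L := by
  intro a b h
  exact Subtype.ext (Units.ext (Matrix.toLin'.injective h))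

theorem L_iso (g : G8) (v : V8) : Q8 (L g v) = Q8 v := by
  rw [L_apply]
  exact ClassicalGeometry.IsoTransfer.mem_isometryGroup_iff.1 g.2 v

theorem exists_f {c : List ℕ} (hc : c.length = 8) : ∃ f : V8 →ₗ[ZMod 2] V8, Rep f c := by
  refine ⟨Matrix.toLin' (Matrix.of fun j i => dec (c.getD (ix i) 0) j), hc, fun i => ?_⟩
  rw [Matrix.toLin'_apply]
  funext j
  rw [Matrix.mulVec_single_one]
  rfl

/-- the code of an isometry -/
def checkIso (c : List ℕ) : Bool := c.length == 8 && (List.range 256).all fun k => qN (app c k) == qN k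

theorem exists_g {c : List ℕ} (h : checkIso c = true) : ∃ g : G8, Rep (L g) c := by
  unfold checkIso at h
  rw [Bool.and_eq_true, beq_iff_eq, List.all_eq_true] at h
  obtain ⟨f, hf⟩ := exists_f h.1
  have hQ : ∀ v, Q8 (f v) = Q8 v := by
    intro v
    have h1 := h.2 (enc v) (List.mem_range.2 (enc_lt v))
    rw [beq_iff_eq] at h1
    rw [← dec_enc v, hf.app, q_dec, q_dec, h1]
  have hinj : Function.Injective f := by
    rw [← LinearMap.ker_eq_bot, LinearMap.ker_eq_bot']
    intro v hv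
    by_contra hv0
    have h1 : ∀ w, QuadraticMap.polarBilin (LieClassical.OmegaReindex.quadPlus 4 (ZMod 2)) v w = 0 := by
      intro w
      have h2 : Q8 (v + w) = Q8 w := by rw [← hQ (v + w), map_add, hv, zero_add, hQ]
      have h3 : Q8 v = 0 := by
        rw [← hQ v, hv]
        decide
      show Q8 (v + w) - Q8 v - Q8 w = 0
      rw [h2, h3]
      ring
    exact hv0 (hnd8.1 v h1)
  let e : V8 ≃ₗ[ZMod 2] V8 := LinearEquiv.ofInjectiveEndo f hinj
  have he : ∀ v, e v = f v := fun v => LinearEquiv.coe_ofInjectiveEndo f hinj ▸ rfl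
  have hmem : e ∈ H957.isoQ (LieClassical.OmegaReindex.quadPlus 4 (ZMod 2)) := by
    intro v
    rw [he]
    exact hQ v
  refine ⟨⟨H957.glOf e, H957.glOf_mem hmem⟩, hf.1, fun i => ?_⟩
  rw [L_apply]
  show (H957.glOf e : Matrix I8 I8 (ZMod 2)).mulVec (Pi.single i 1) = _
  rw [H957.glOf_mulVec, he]
  exact hf.2 i

/-- powers of codes -/
def powN (c : List ℕ) : ℕ → List ℕ
  | 0 => oneN
  | n + 1 => mulN c (powN c n)

theorem Rep.pow {g : G8} {c : List ℕ} (h : Rep (L g) c) (n : ℕ) : Rep (L (g ^ n)) (powN c n) := by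
  induction n with
  | zero => rw [pow_zero, L_one]; exact rep_one
  | succ n ih => rw [pow_succ', L_mul]; exact h.mul ih

theorem Rep.mulG {g h : G8} {c d : List ℕ} (hg : Rep (L g) c) (hh : Rep (L h) d) : Rep (L (g * h)) (mulN c d) := by
  rw [L_mul]
  exact hg.mul hh

theorem Rep.inj {g h : G8} {c : List ℕ} (hg : Rep (L g) c) (hh : Rep (L h) c) : g = h :=
  L_injective (hg.eq hh)

theorem Rep.one_iff {g : G8} {c : List ℕ} (hg : Rep (L g) c) (hc : c = oneN) : g = 1 := by
  subst hc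
  exact hg.inj (L_one ▸ rep_one)

theorem dec_inj {a b : ℕ} (ha : a < 256) (hb : b < 256) (h : dec a = dec b) : a = b := by
  have key : ∀ i : I8, a.testBit (ix i) = b.testBit (ix i) := by
    intro i
    have h1 := congrFun h i
    unfold dec at h1
    cases h2 : a.testBit (ix i) <;> cases h3 : b.testBit (ix i) <;> simp [h2, h3] at h1 ⊢
  apply Nat.eq_of_testBit_eq
  intro i
  by_cases hi : i < 8
  · by_cases hi4 : i < 4
    · exact key (.inl ⟨i, hi4⟩)
    · have := key (.inr ⟨i - 4, by omega⟩)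
      have h4 : ix (.inr ⟨i - 4, by omega⟩) = i := by
        show 4 + (i - 4) = i
        omega
      rwa [h4] at this
  · have h1 : 2 ^ 8 ≤ 2 ^ i := Nat.pow_le_pow_right (by norm_num) (by omega)
    rw [Nat.testBit_lt_two_pow (by omega), Nat.testBit_lt_two_pow (by omega)]

/-- the code consists of small numbers -/
def small (c : List ℕ) : Bool := c.all fun k => k < 256

theorem Rep.ne_one {g : G8} {c : List ℕ} (hg : Rep (L g) c) (hs : small c = true) (hc : c ≠ oneN) : g ≠ 1 := by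
  rintro rfl
  apply hc
  rw [L_one] at hg
  unfold small at hs
  rw [List.all_eq_true] at hs
  have h1 : ∀ i : I8, c.getD (ix i) 0 = oneN.getD (ix i) 0 := by
    intro i
    have h2 := (hg.2 i).symm.trans (rep_one.2 i)
    refine dec_inj ?_ ?_ h2
    · rw [List.getD_eq_getElem _ _ (by rw [hg.1]; exact ix_lt i)]
      simpa using hs _ (List.getElem_mem _)
    · rw [oneN_getD]
      have := ix_lt i
      calc 2 ^ ix i < 2 ^ 8 := Nat.pow_lt_pow_right (by norm_num) this
        _ = 256 := by norm_num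
  apply List.ext_getElem (by rw [hg.1]; rfl)
  intro n hn1 hn2
  rw [hg.1] at hn1
  obtain ⟨i, rfl⟩ : ∃ i : I8, ix i = n := by
    by_cases h4 : n < 4
    · exact ⟨.inl ⟨n, h4⟩, rfl⟩
    · refine ⟨.inr ⟨n - 4, by omega⟩, ?_⟩
      show 4 + (n - 4) = n
      omega
  have := h1 i
  rwa [List.getD_eq_getElem _ _ (by rw [hg.1]; exact ix_lt i),
    List.getD_eq_getElem _ _ (by exact ix_lt i)] at this

/-- words -/
def ev {M : Type*} [Monoid M] (x y : M) : List Bool → M
  | [] => 1
  | b :: w => (bif b then y else x) * ev x y w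

/-- words on codes -/
def evN (x y : List ℕ) : List Bool → List ℕ
  | [] => oneN
  | b :: w => mulN (bif b then y else x) (evN x y w)

theorem rep_ev {x y : G8} {cx cy : List ℕ} (hx : Rep (L x) cx) (hy : Rep (L y) cy) (w : List Bool) :
    Rep (L (ev x y w)) (evN cx cy w) := by
  induction w with
  | nil => rw [ev, L_one]; exact rep_one
  | cons b w ih =>
    cases b
    · exact hx.mulG ih
    · exact hy.mulG ih

theorem ev_mem {G : Type*} [Group G] {K : Subgroup G} {x y : G} (hx : x ∈ K) (hy : y ∈ K) (w : List Bool) :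
    ev x y w ∈ K := by
  induction w with
  | nil => exact one_mem _
  | cons b w ih =>
    cases b
    · exact mul_mem hx ih
    · exact mul_mem hy ih

theorem coe_ev (x y : S8) (w : List Bool) : ((ev x y w : S8) : G8) = ev (x : G8) (y : G8) w := by
  induction w with
  | nil => rfl
  | cons b w ih =>
    cases b
    · show ((x * ev x y w : S8) : G8) = _
      rw [Subgroup.coe_mul, ih]; rfl
    · show ((y * ev x y w : S8) : G8) = _
      rw [Subgroup.coe_mul, ih]; rfl

/-- odd order: in `Ω` -/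
theorem mem_omega_of_odd {g : G8} {m : ℕ} (hm : m % 2 = 1) (h : g ^ m = 1) : g ∈ Omega (ZMod 2) Q8 := by
  have h1 : g ^ 2 ∈ Omega (ZMod 2) Q8 := by
    have h2 : (Omega (ZMod 2) Q8).Normal := inferInstanceAs (commutator _).Normal
    have := Subgroup.pow_index_mem (Omega (ZMod 2) Q8) g
    rwa [index_s8] at this
  have h2 : g = g ^ (m + 1) := by rw [pow_succ, h, one_mul]
  rw [h2]
  obtain ⟨k, hk⟩ : ∃ k, m + 1 = 2 * k := ⟨(m + 1) / 2, by omega⟩
  rw [hk, pow_mul]
  exact pow_mem h1 k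

/-- two different classes of elements of order `5` -/
theorem dvd25 {K : Subgroup S8} {A B : S8} (hA : A ∈ K) (hB : B ∈ K) (hAo : orderOf A = 5) (hBo : orderOf B = 5)
    {v : V8} (hv : v ≠ 0) (hAv : L A v = v) (hBv : ∀ w, L B w = w → w = 0) : 25 ∣ Nat.card K := by
  haveI : Fact (Nat.Prime 5) := ⟨Nat.prime_five⟩
  haveI : Finite S8 := Finite.of_equiv T8 e8.symm.toEquiv
  by_contra h25
  have h5 : 5 ∣ Nat.card K := by
    rw [← hAo]
    exact Subgroup.orderOf_dvd_natCard K hA
  have key : ∀ (x : K), orderOf x = 5 → ∃ P : Sylow 5 K, (P : Subgroup K) = zpowers x := by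
    intro x hx
    have h1 : IsPGroup 5 (zpowers x) := IsPGroup.of_card (n := 1) (by rw [Nat.card_zpowers, hx, pow_one])
    obtain ⟨P, hP⟩ := h1.exists_le_sylow
    refine ⟨P, ?_⟩
    symm
    refine Subgroup.eq_of_le_of_card_ge hP ?_
    rw [Nat.card_zpowers, hx]
    obtain ⟨k, hk⟩ := IsPGroup.iff_card.1 P.isPGroup'
    rw [hk]
    have hk1 : k ≤ 1 := by
      by_contra hk2
      exact h25 ((pow_dvd_pow 5 (by omega : 2 ≤ k)).trans (hk ▸ Subgroup.card_subgroup_dvd_card (P : Subgroup K)))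
    calc 5 ^ k ≤ 5 ^ 1 := Nat.pow_le_pow_right (by norm_num) hk1
      _ = 5 := pow_one 5
  obtain ⟨P, hP⟩ := key ⟨A, hA⟩ (by rw [Subgroup.orderOf_mk, hAo])
  obtain ⟨R, hR⟩ := key ⟨B, hB⟩ (by rw [Subgroup.orderOf_mk, hBo])
  obtain ⟨g, hg⟩ := MulAction.exists_smul_eq K P R
  have h1 : (⟨B, hB⟩ : K) ∈ (g • P : Sylow 5 K) := by
    rw [hg]
    show (⟨B, hB⟩ : K) ∈ (R : Subgroup K)
    rw [hR]
    exact mem_zpowers _
  obtain ⟨z, hz, hzB⟩ := h1
  have hz' : z ∈ zpowers (⟨A, hA⟩ : K) := by rw [← hP]; exact hz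
  obtain ⟨k, hk⟩ := mem_zpowers_iff.1 hz'
  have h2 : (B : S8) = (g : S8) * A ^ k * (g : S8)⁻¹ := by
    have h3 : g * z * g⁻¹ = ⟨B, hB⟩ := hzB
    rw [← hk] at h3
    have := congrArg (fun u : K => (u : S8)) h3
    exact this.symm
  -- `A ^ k` fixes `v`
  have hfix : ∀ k : ℕ, L ((A ^ k : S8) : G8) v = v := by
    intro k
    induction k with
    | zero => rw [pow_zero]; show L 1 v = v; rw [L_one]; rfl
    | succ k ih =>
      rw [pow_succ]
      show L ((A ^ k : S8) * (A : S8) : G8) v = v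
      rw [L_mul, LinearMap.comp_apply, hAv, ih]
  obtain ⟨k', hk'⟩ : ∃ k' : ℕ, A ^ k = A ^ k' := by
    have := (mem_zpowers_iff_mem_range_orderOf (x := A) (y := A ^ k)).1 (zpow_mem (mem_zpowers A) k)
    rw [Finset.mem_image] at this
    obtain ⟨k', -, hk'⟩ := this
    exact ⟨k', hk'.symm⟩
  rw [hk'] at h2
  have h4 : L (B : G8) (L ((g : S8) : G8) v) = L ((g : S8) : G8) v := by
    have h5 : ((B : S8) : G8) * (((g : S8) : G8)) = ((g : S8) : G8) * ((A ^ k' : S8) : G8) := by
      have h6 : B * (g : S8) = (g : S8) * A ^ k' := by rw [h2]; group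
      have := congrArg (fun u : S8 => (u : G8)) h6
      exact this
    rw [← LinearMap.comp_apply, ← L_mul, h5, L_mul, LinearMap.comp_apply, hfix]
  have h5 := hBv _ h4
  apply hv
  have h6 : L (((g : S8) : G8)⁻¹) (L ((g : S8) : G8) v) = v := by
    rw [← LinearMap.comp_apply, ← L_mul, inv_mul_cancel, L_one]; rfl
  rw [h5, map_zero] at h6
  exact h6.symm

/-- certificates -/
structure Crt where
  x : List ℕ
  m : ℕ
  ai : List ℕ
  w7 : List Bool
  p7 : ℕ
  wA : List Bool
  pA : ℕ
  vA : ℕ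
  wB : List Bool
  pB : ℕ

/-- the sum of the powers of `c` is zero -/
def sum5 (c : List ℕ) : Bool :=
  let c2 := mulN c c
  let c3 := mulN c c2
  let c4 := mulN c c3
  (List.range 8).all fun i => (oneN.getD i 0 ^^^ (c.getD i 0 ^^^ (c2.getD i 0 ^^^ (c3.getD i 0 ^^^ c4.getD i 0)))) == 0

/-- elements of order `p` -/
def ordN (c : List ℕ) (p : ℕ) : Bool := powN c p == oneN && (small c && c != oneN)

/-- the check of a certificate -/
def check (ca : List ℕ) (c : Crt) : Bool :=
  checkIso c.x && (powN c.x c.m == oneN && (c.m % 2 == 1 && (mulN ca c.ai == oneN && (c.ai.length == 8 &&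
    (let y := mulN (mulN ca c.x) c.ai
     let g7 := powN (evN c.x y c.w7) c.p7
     let gA := powN (evN c.x y c.wA) c.pA
     let gB := powN (evN c.x y c.wB) c.pB
     ordN g7 7 && (ordN gA 5 && (ordN gB 5 && (sum5 gB && (app gA c.vA == c.vA && (0 < c.vA && c.vA < 256))))))))))

theorem Rep.order {g : G8} {c : List ℕ} {p : ℕ} (hp : p.Prime) (h : Rep (L g) c) (hc : ordN c p = true) :
    orderOf g = p := by
  haveI : Fact p.Prime := ⟨hp⟩
  unfold ordN at hc
  rw [Bool.and_eq_true, Bool.and_eq_true, beq_iff_eq, bne_iff_ne] at hc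
  exact orderOf_eq_prime ((h.pow p).one_iff hc.1) (h.ne_one hc.2.1 hc.2.2)

theorem Rep.no_fix {g : G8} {c : List ℕ} (h : Rep (L g) c) (hc : sum5 c = true) (w : V8) (hw : L g w = w) : w = 0 := by
  unfold sum5 at hc
  rw [List.all_eq_true] at hc
  have h2 := h.mulG h
  have h3 := h.mulG h2
  have h4 := h.mulG h3
  have hsum : ∀ v : V8, v + (L g v + (L (g * g) v + (L (g * (g * g)) v + L (g * (g * (g * g))) v))) = 0 := by
    have : LinearMap.id + (L g + (L (g * g) + (L (g * (g * g)) + L (g * (g * (g * g)))))) =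
        (0 : V8 →ₗ[ZMod 2] V8) := by
      apply LinearMap.pi_ext'
      intro i
      apply LinearMap.ext_ring
      simp only [LinearMap.comp_apply, LinearMap.add_apply, LinearMap.zero_apply, LinearMap.id_apply]
      show (Pi.single i 1 : V8) + (L g (Pi.single i 1) + (L (g * g) (Pi.single i 1) +
        (L (g * (g * g)) (Pi.single i 1) + L (g * (g * (g * g))) (Pi.single i 1)))) = 0
      rw [h.2 i, h2.2 i, h3.2 i, h4.2 i, single_eq, ← oneN_getD, ← dec_xor, ← dec_xor, ← dec_xor, ← dec_xor]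
      have h5 := hc (ix i) (List.mem_range.2 (ix_lt i))
      rw [beq_iff_eq] at h5
      rw [h5, dec_zero]
    intro v
    have h6 := congrArg (fun f : V8 →ₗ[ZMod 2] V8 => f v) this
    exact h6
  have h5 := hsum w
  have e2 : L (g * g) w = w := by rw [L_mul, LinearMap.comp_apply, hw, hw]
  have e3 : L (g * (g * g)) w = w := by rw [L_mul, LinearMap.comp_apply, e2, hw]
  have e4 : L (g * (g * (g * g))) w = w := by rw [L_mul, LinearMap.comp_apply, e3, hw]
  rw [hw, e2, e3, e4] at h5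
  have h6 : w + w = 0 := by
    funext i
    show w i + w i = 0
    exact CharTwo.add_self_eq_zero _
  rw [h6, add_zero, h6, add_zero] at h5
  exact h5

theorem dec_ne {k : ℕ} (h0 : 0 < k) (h : k < 256) : dec k ≠ 0 := by
  intro h1
  rw [← dec_zero] at h1
  exact h0.ne' (dec_inj h (by norm_num) h1)

/-- **the certificate** -/
theorem of_check {a : G8} {ca : List ℕ} (ha : Rep (L a) ca) {c : Crt} (hc : check ca c = true) :
    ∃ x : S8, ∀ K : Subgroup S8, x ∈ K → MulAut.conjNormal a x ∈ K → 7 ∣ Nat.card K ∧ 25 ∣ Nat.card K := by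
  haveI : Finite S8 := Finite.of_equiv T8 e8.symm.toEquiv
  unfold check at hc
  simp only [Bool.and_eq_true, beq_iff_eq, decide_eq_true_eq] at hc
  obtain ⟨hiso, hpow, hodd, hinv, hlen, h7, hA, hB, hsum, hvA, hv0, hv1⟩ := hc
  obtain ⟨X, hX⟩ := exists_g hiso
  have hXm : X ^ c.m = 1 := (hX.pow c.m).one_iff hpow
  let x : S8 := ⟨X, mem_omega_of_odd hodd hXm⟩
  -- the inverse of `a`
  obtain ⟨f, hf⟩ := exists_f hlen
  have hai : Rep (L a⁻¹) c.ai := by
    have h1 : Rep (L a ∘ₗ f) oneN := by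
      rw [← hinv]
      exact ha.mul hf
    have h2 : L a ∘ₗ f = LinearMap.id := h1.eq rep_one
    have h3 : f = L a⁻¹ := by
      have h4 : L a⁻¹ ∘ₗ L a = LinearMap.id := by rw [← L_mul, inv_mul_cancel, L_one]
      calc f = (L a⁻¹ ∘ₗ L a) ∘ₗ f := by rw [h4, LinearMap.id_comp]
        _ = L a⁻¹ := by rw [LinearMap.comp_assoc, h2, LinearMap.comp_id]
    rw [← h3]
    exact hf
  have hY : Rep (L (a * X * a⁻¹)) (mulN (mulN ca c.x) c.ai) := (ha.mulG hX).mulG hai
  set y : S8 := MulAut.conjNormal a x with hy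
  have hyc : (y : G8) = a * X * a⁻¹ := MulAut.conjNormal_apply a x
  rw [← hyc] at hY
  have hXx : Rep (L (x : G8)) c.x := hX
  refine ⟨x, fun K hx hyK => ?_⟩
  have hrep : ∀ (w : List Bool) (p : ℕ), Rep (L (((ev x y w) ^ p : S8) : G8))
      (powN (evN c.x (mulN (mulN ca c.x) c.ai) w) p) := by
    intro w p
    rw [Subgroup.coe_pow, coe_ev]
    exact (rep_ev hXx hY w).pow p
  have hmem : ∀ (w : List Bool) (p : ℕ), (ev x y w) ^ p ∈ K := fun w p => pow_mem (ev_mem hx hyK w) p
  constructor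
  · have h1 := (hrep c.w7 c.p7).order (by norm_num) h7
    rw [Subgroup.orderOf_coe] at h1
    rw [← h1]
    exact Subgroup.orderOf_dvd_natCard K (hmem _ _)
  · have h1 := (hrep c.wA c.pA).order (by norm_num) hA
    have h2 := (hrep c.wB c.pB).order (by norm_num) hB
    rw [Subgroup.orderOf_coe] at h1 h2
    refine dvd25 (hmem c.wA c.pA) (hmem c.wB c.pB) h1 h2 (v := dec c.vA) (dec_ne hv0 hv1) ?_
      ((hrep c.wB c.pB).no_fix hsum)
    rw [(hrep c.wA c.pA).app, hvA]

end Cfsg.Agent.H884.Oc
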