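import Cfsg.Agent.H884.Oc.Cert
import Cfsg.Agent.ClassicalGeometry.WittQuad

/-!
# S3938, `Ω⁺₈(2)`: isometries as products of reflections and long root elements (helper884)
-/

set_option autoImplicit false
set_option maxRecDepth 100000
set_option linter.unusedSectionVars false
set_option linter.style.haveILetI false

namespace Cfsg.Agent.H884.Oc

open Subgroup Cfsg Cfsg.Agent Cfsg.Agent.H503 Cfsg.Agent.H503.El.O8 Module

/-- the quadratic form -/
noncomputable abbrev QP : QuadraticForm (ZMod 2) V8 := LieClassical.OmegaReindex.quadPlus 4 (ZMod 2)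

theorem qp_eq (v : V8) : QP v = Q8 v := rfl

/-- the bilinear form -/
noncomputable def B (u v : V8) : ZMod 2 := Q8 (u + v) + Q8 u + Q8 v

theorem B_eq (u v : V8) : B u v = QuadraticMap.polarBilin QP u v := by
  show Q8 (u + v) + Q8 u + Q8 v = Q8 (u + v) - Q8 u - Q8 v
  rw [sub_eq_add_neg, sub_eq_add_neg, CharTwo.neg_eq, CharTwo.neg_eq]

theorem B_add_right (u v w : V8) : B u (v + w) = B u v + B u w := by
  rw [B_eq, B_eq, B_eq, map_add]

theorem B_add_left (u v w : V8) : B (u + v) w = B u w + B v w := by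
  rw [B_eq, B_eq, B_eq, map_add, LinearMap.add_apply]

theorem B_smul_right (c : ZMod 2) (u v : V8) : B u (c • v) = c * B u v := by
  rw [B_eq, B_eq, map_smul, smul_eq_mul]

theorem B_comm (u v : V8) : B u v = B v u := by
  unfold B
  rw [add_comm u v]
  ring

theorem B_self (u : V8) : B u u = 0 := by
  unfold B
  have h1 : u + u = 0 := by
    funext i
    show u i + u i = 0
    exact CharTwo.add_self_eq_zero _
  have h2 : Q8 (0 : V8) = 0 := by decide
  rw [h1, h2, zero_add]
  exact CharTwo.add_self_eq_zero _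

theorem B_zero_right (u : V8) : B u 0 = 0 := by
  rw [B_eq, map_zero]

theorem B_zero_left (u : V8) : B 0 u = 0 := by
  rw [B_comm, B_zero_right]

theorem Q_add (u v : V8) : Q8 (u + v) = Q8 u + Q8 v + B u v := by
  unfold B
  have h1 : Q8 u + Q8 u = 0 := CharTwo.add_self_eq_zero _
  have h2 : Q8 v + Q8 v = 0 := CharTwo.add_self_eq_zero _
  linear_combination -h1 - h2

theorem B_nondeg {u : V8} (h : ∀ v, B u v = 0) : u = 0 := by
  apply hnd8.1 u
  intro v
  have := h v
  rwa [B_eq] at this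

theorem v_add_self (v : V8) : v + v = 0 := by
  funext i
  show v i + v i = 0
  exact CharTwo.add_self_eq_zero _

theorem z2 (c : ZMod 2) : c = 0 ∨ c = 1 := by
  revert c
  decide

/-- reflections -/
noncomputable def R (u : V8) : V8 →ₗ[ZMod 2] V8 where
  toFun v := v + B u v • u
  map_add' v w := by rw [B_add_right, add_smul]; abel
  map_smul' c v := by
    rw [B_smul_right, RingHom.id_apply, smul_add, smul_smul]

theorem R_apply (u v : V8) : R u v = v + B u v • u := rfl

/-- long root elements -/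
noncomputable def T (r s : V8) : V8 →ₗ[ZMod 2] V8 where
  toFun v := v + (B r v • s + B s v • r)
  map_add' v w := by rw [B_add_right, B_add_right, add_smul, add_smul]; abel
  map_smul' c v := by
    rw [B_smul_right, B_smul_right, RingHom.id_apply, smul_add, smul_add, smul_smul, smul_smul]

theorem T_apply (r s v : V8) : T r s v = v + (B r v • s + B s v • r) := rfl

/-- isometries -/
def Iso (f : V8 →ₗ[ZMod 2] V8) : Prop := ∀ v, Q8 (f v) = Q8 v

theorem Iso.B {f : V8 →ₗ[ZMod 2] V8} (h : Iso f) (u v : V8) : Oc.B (f u) (f v) = Oc.B u v := by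
  unfold Oc.B
  rw [← map_add, h, h, h]

theorem Iso.comp {f g : V8 →ₗ[ZMod 2] V8} (hf : Iso f) (hg : Iso g) : Iso (f ∘ₗ g) := fun v => by
  rw [LinearMap.comp_apply, hf, hg]

theorem iso_R {u : V8} (hu : Q8 u = 1) : Iso (R u) := by
  intro v
  rw [R_apply]
  rcases z2 (B u v) with h | h
  · rw [h, zero_smul, add_zero]
  · rw [h, one_smul, Q_add, hu, B_comm, h, add_assoc, CharTwo.add_self_eq_zero, add_zero]

theorem R_sq {u : V8} (v : V8) : R u (R u v) = v := by
  rw [R_apply, R_apply, B_add_right, B_smul_right, B_self, mul_zero, add_zero, add_assoc, v_add_self, add_zero]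

theorem iso_T {r s : V8} (hr : Q8 r = 0) (hs : Q8 s = 0) (hrs : B r s = 0) : Iso (T r s) := by
  intro v
  rw [T_apply]
  have hsr : B s r = 0 := by rw [B_comm, hrs]
  rcases z2 (B r v) with h | h <;> rcases z2 (B s v) with h' | h' <;> rw [h, h']
  · simp
  · rw [zero_smul, zero_add, one_smul, Q_add, hr, B_comm, h]; simp
  · rw [zero_smul, add_zero, one_smul, Q_add, hs, B_comm, h']; simp
  · rw [one_smul, one_smul, Q_add, Q_add, hr, hs, B_comm s r, hrs, B_add_right, B_comm v s, B_comm v r, h, h']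
    have : (1 : ZMod 2) + 1 = 0 := by decide
    simp [this]

theorem T_sq {r s : V8} (hrs : B r s = 0) (v : V8) : T r s (T r s v) = v := by
  have hsr : B s r = 0 := by rw [B_comm, hrs]
  rw [T_apply, T_apply]
  simp only [B_add_right, B_smul_right, B_self, hrs, hsr, mul_zero, add_zero]
  rw [add_assoc, v_add_self, add_zero]

/-- blocks -/
inductive Bk
  | r | t | z
  deriving DecidableEq

/-- the product -/
noncomputable def actB : List Bk → List V8 → (V8 →ₗ[ZMod 2] V8)
  | .r :: t, u :: vs => R u ∘ₗ actB t vs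
  | .t :: t, u :: v :: vs => T u v ∘ₗ actB t vs
  | .z :: t, u :: v :: vs => (R u ∘ₗ R v) ∘ₗ actB t vs
  | _, _ => LinearMap.id

/-- the Gram matrix -/
def Ok : List Bk → List V8 → Prop
  | .r :: t, u :: vs => Q8 u = 1 ∧ (∀ v ∈ vs, B u v = 0) ∧ Ok t vs
  | .t :: t, u :: v :: vs => (Q8 u = 0 ∧ Q8 v = 0 ∧ B u v = 0) ∧ (∀ w ∈ vs, B u w = 0 ∧ B v w = 0) ∧ Ok t vs
  | .z :: t, u :: v :: vs => (Q8 u = 1 ∧ Q8 v = 1 ∧ B u v = 1) ∧ (∀ w ∈ vs, B u w = 0 ∧ B v w = 0) ∧ Ok t vs
  | [], [] => True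
  | _, _ => False

/-- independence -/
def Ind (vs : List V8) : Prop := LinearIndependent (ZMod 2) vs.get

theorem ind_nil : Ind [] := by
  have : IsEmpty (Fin ([] : List V8).length) := inferInstanceAs (IsEmpty (Fin 0))
  exact linearIndependent_empty_type

theorem Ind.cons {u : V8} {vs : List V8} (h : Ind vs) {z : V8} (hz : B u z = 1) (hv : ∀ v ∈ vs, B v z = 0) :
    Ind (u :: vs) := by
  unfold Ind at h ⊢
  have h1 : (u :: vs).get = (Fin.cons u vs.get : Fin (vs.length + 1) → V8) := by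
    funext i
    refine Fin.cases ?_ (fun i => ?_) i
    · rfl
    · rfl
  rw [h1, linearIndependent_finCons]
  refine ⟨h, fun hmem => ?_⟩
  have h2 : ∀ w ∈ Submodule.span (ZMod 2) (Set.range vs.get), B w z = 0 := by
    intro w hw
    induction hw using Submodule.span_induction with
    | mem w hw =>
      obtain ⟨i, rfl⟩ := hw
      exact hv _ (List.get_mem _ _)
    | zero => exact B_zero_left z
    | add a b _ _ ha hb => rw [B_add_left, ha, hb, add_zero]
    | smul c a _ ha => rw [B_comm, B_smul_right, B_comm, ha, mul_zero]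
  rw [h2 u hmem] at hz
  exact absurd hz (by decide)

/-- paired lists -/
structure Pr (vs ws : List V8) (zs : List (V8 × V8)) : Prop where
  fst : zs.map Prod.fst = vs
  snd : zs.map Prod.snd = ws
  q : ∀ z ∈ zs, Q8 z.1 = Q8 z.2
  b : ∀ z ∈ zs, ∀ z' ∈ zs, B z.1 z'.1 = B z.2 z'.2

theorem Pr.mem_fst {vs ws : List V8} {zs : List (V8 × V8)} (h : Pr vs ws zs) {z : V8 × V8} (hz : z ∈ zs) :
    z.1 ∈ vs := by
  rw [← h.fst]
  exact List.mem_map_of_mem hz

theorem Pr.mem_snd {vs ws : List V8} {zs : List (V8 × V8)} (h : Pr vs ws zs) {z : V8 × V8} (hz : z ∈ zs) :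
    z.2 ∈ ws := by
  rw [← h.snd]
  exact List.mem_map_of_mem hz

theorem Pr.cons {vs ws : List V8} {zs : List (V8 × V8)} (h : Pr vs ws zs) {u u' : V8} (hq : Q8 u = Q8 u')
    (hb : ∀ z ∈ zs, B u z.1 = B u' z.2) : Pr (u :: vs) (u' :: ws) ((u, u') :: zs) where
  fst := by rw [List.map_cons, h.fst]
  snd := by rw [List.map_cons, h.snd]
  q z hz := by
    rcases List.mem_cons.1 hz with rfl | hz
    · exact hq
    · exact h.q z hz
  b z hz z' hz' := by
    rcases List.mem_cons.1 hz with rfl | hz <;> rcases List.mem_cons.1 hz' with rfl | hz'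
    · rw [B_self, B_self]
    · exact hb _ hz'
    · rw [B_comm, hb _ hz, B_comm]
    · exact h.b z hz z' hz'

theorem exists_pr : ∀ (t : List Bk) (vs ws : List V8), Ok t vs → Ok t ws → ∃ zs, Pr vs ws zs
  | [], [], [], _, _ => ⟨[], rfl, rfl, by simp, by simp⟩
  | .r :: t, u :: vs, u' :: ws, h, h' => by
    obtain ⟨zs, hz⟩ := exists_pr t vs ws h.2.2 h'.2.2
    exact ⟨_, hz.cons (h.1.trans h'.1.symm) fun z hm => (h.2.1 _ (hz.mem_fst hm)).trans (h'.2.1 _ (hz.mem_snd hm)).symm⟩
  | .t :: t, u :: v :: vs, u' :: v' :: ws, h, h' => by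
    obtain ⟨zs, hz⟩ := exists_pr t vs ws h.2.2 h'.2.2
    have h1 := hz.cons (h.1.2.1.trans h'.1.2.1.symm) fun z hm =>
      (h.2.1 _ (hz.mem_fst hm)).2.trans (h'.2.1 _ (hz.mem_snd hm)).2.symm
    refine ⟨_, h1.cons (h.1.1.trans h'.1.1.symm) fun z hm => ?_⟩
    rcases List.mem_cons.1 hm with rfl | hm
    · exact h.1.2.2.trans h'.1.2.2.symm
    · exact (h.2.1 _ (hz.mem_fst hm)).1.trans (h'.2.1 _ (hz.mem_snd hm)).1.symm
  | .z :: t, u :: v :: vs, u' :: v' :: ws, h, h' => by
    obtain ⟨zs, hz⟩ := exists_pr t vs ws h.2.2 h'.2.2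
    have h1 := hz.cons (h.1.2.1.trans h'.1.2.1.symm) fun z hm =>
      (h.2.1 _ (hz.mem_fst hm)).2.trans (h'.2.1 _ (hz.mem_snd hm)).2.symm
    refine ⟨_, h1.cons (h.1.1.trans h'.1.1.symm) fun z hm => ?_⟩
    rcases List.mem_cons.1 hm with rfl | hm
    · exact h.1.2.2.trans h'.1.2.2.symm
    · exact (h.2.1 _ (hz.mem_fst hm)).1.trans (h'.2.1 _ (hz.mem_snd hm)).1.symm

/-- **Witt** -/
theorem exists_map {t : List Bk} {vs ws : List V8} (h : Ok t vs) (h' : Ok t ws) (hi : Ind vs) (hi' : Ind ws) :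
    ∃ g : V8 ≃ₗ[ZMod 2] V8, (∀ v, Q8 (g v) = Q8 v) ∧ vs.map g = ws := by
  obtain ⟨zs, hz⟩ := exists_pr t vs ws h h'
  obtain ⟨rfl, rfl, hq, hb⟩ := hz
  have e1 : (zs.map Prod.fst).get = (fun i : Fin (zs.map Prod.fst).length => (zs.get (i.cast (by simp))).1) := by
    funext i; simp
  have e2 : (zs.map Prod.snd).get = (fun i : Fin (zs.map Prod.snd).length => (zs.get (i.cast (by simp))).2) := by
    funext i; simp
  have i1 : LinearIndependent (ZMod 2) (fun i : Fin zs.length => (zs.get i).1) := by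
    have h1 : LinearIndependent (ZMod 2) (zs.map Prod.fst).get := hi
    rw [e1] at h1
    exact h1.comp (fun i : Fin zs.length => i.cast (by simp)) (fun a b hab => by simpa using hab)
  have i2 : LinearIndependent (ZMod 2) (fun i : Fin zs.length => (zs.get i).2) := by
    have h1 : LinearIndependent (ZMod 2) (zs.map Prod.snd).get := hi'
    rw [e2] at h1
    exact h1.comp (fun i : Fin zs.length => i.cast (by simp)) (fun a b hab => by simpa using hab)
  obtain ⟨g, hg, hg'⟩ := ClassicalGeometry.WittQuad.extend_family QP hnd8 zs.length _ _ i1 i2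
    (fun i => hq _ (List.get_mem _ _)) (fun i j => by
      rw [← B_eq, ← B_eq]
      exact hb _ (List.get_mem _ _) _ (List.get_mem _ _))
  refine ⟨g, hg, ?_⟩
  rw [List.map_map]
  apply List.map_congr_left
  intro z hz
  obtain ⟨i, rfl⟩ := List.get_of_mem hz
  exact hg' i

theorem conj_R {g : V8 ≃ₗ[ZMod 2] V8} (hg : ∀ v, Q8 (g v) = Q8 v) (u v : V8) : g (R u v) = R (g u) (g v) := by
  have hB : B (g u) (g v) = B u v := by
    unfold B
    rw [← map_add, hg, hg, hg]
  rw [R_apply, R_apply, map_add, map_smul, hB]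

theorem conj_T {g : V8 ≃ₗ[ZMod 2] V8} (hg : ∀ v, Q8 (g v) = Q8 v) (r s v : V8) :
    g (T r s v) = T (g r) (g s) (g v) := by
  have hB : ∀ u v, B (g u) (g v) = B u v := by
    intro u v
    unfold B
    rw [← map_add, hg, hg, hg]
  rw [T_apply, T_apply, map_add, map_add, map_smul, map_smul, hB, hB]

theorem conj_act {g : V8 ≃ₗ[ZMod 2] V8} (hg : ∀ v, Q8 (g v) = Q8 v) : ∀ (t : List Bk) (vs : List V8) (v : V8),
    g (actB t vs v) = actB t (vs.map g) (g v)
  | [], _, v => by cases ‹List V8› <;> rfl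
  | .r :: t, [], v => rfl
  | .r :: t, u :: vs, v => by
    show g (R u (actB t vs v)) = R (g u) (actB t (vs.map g) (g v))
    rw [conj_R hg, conj_act hg t vs v]
  | .t :: t, [], v => rfl
  | .t :: t, [u], v => rfl
  | .t :: t, u :: w :: vs, v => by
    show g (T u w (actB t vs v)) = T (g u) (g w) (actB t (vs.map g) (g v))
    rw [conj_T hg, conj_act hg t vs v]
  | .z :: t, [], v => rfl
  | .z :: t, [u], v => rfl
  | .z :: t, u :: w :: vs, v => by
    show g (R u (R w (actB t vs v))) = R (g u) (R (g w) (actB t (vs.map g) (g v)))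
    rw [conj_R hg, conj_R hg, conj_act hg t vs v]

end Cfsg.Agent.H884.Oc
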