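import Cfsg.Agent.H884.Oc.Aut

/-!
# S3938, `Ω⁺₈(2)`: the elements of order `5` with fixed vectors (helper884)
-/

set_option autoImplicit false
set_option maxRecDepth 100000
set_option linter.unusedSectionVars false
set_option linter.style.haveILetI false
set_option linter.unusedVariables false

namespace Cfsg.Agent.H884.Oc

open Subgroup Cfsg Cfsg.Agent Cfsg.Agent.H503 Cfsg.Agent.H503.El.O8 Module

/-- elements of order `5` in terms of a commuting pair -/
theorem exists_pow_conj {G : Type*} [Group G] [Finite G] {A B : G} (hA : orderOf A = 5) (hB : orderOf B = 5)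
    (hAB : Commute A B) (hne : B ∉ zpowers A) (h125 : ¬ 5 ^ 3 ∣ Nat.card G) {a : G} (ha : orderOf a = 5) :
    ∃ b : G, ∃ i < 5, ∃ j < 5, b * a * b⁻¹ = A ^ i * B ^ j := by
  haveI : Fact (Nat.Prime 5) := ⟨Nat.prime_five⟩
  have hA5 : A ^ 5 = 1 := by
    have := pow_orderOf_eq_one A
    rwa [hA] at this
  have hB5 : B ^ 5 = 1 := by
    have := pow_orderOf_eq_one B
    rwa [hB] at this
  have hmod : ∀ (g : G) (hg : g ^ 5 = 1) (n : ℕ), g ^ n = g ^ (n % 5) := by
    intro g hg n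
    conv_lhs => rw [← Nat.div_add_mod n 5, pow_add, pow_mul, hg, one_pow, one_mul]
  let E : Subgroup G :=
    { carrier := {g | ∃ i j : ℕ, g = A ^ i * B ^ j}
      one_mem' := ⟨0, 0, by simp⟩
      mul_mem' := by
        rintro _ _ ⟨i, j, rfl⟩ ⟨i', j', rfl⟩
        refine ⟨i + i', j + j', ?_⟩
        rw [pow_add, pow_add]
        calc A ^ i * B ^ j * (A ^ i' * B ^ j') = A ^ i * (B ^ j * A ^ i') * B ^ j' := by group
          _ = A ^ i * (A ^ i' * B ^ j) * B ^ j' := by rw [((hAB.pow_left i').pow_right j).eq]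
          _ = _ := by group
      inv_mem' := by
        rintro _ ⟨i, j, rfl⟩
        refine ⟨4 * i, 4 * j, ?_⟩
        apply inv_eq_of_mul_eq_one_right
        calc A ^ i * B ^ j * (A ^ (4 * i) * B ^ (4 * j)) = A ^ i * (B ^ j * A ^ (4 * i)) * B ^ (4 * j) := by group
          _ = A ^ i * (A ^ (4 * i) * B ^ j) * B ^ (4 * j) := by rw [((hAB.pow_left (4 * i)).pow_right j).eq]
          _ = A ^ (5 * i) * B ^ (5 * j) := by
              rw [show 5 * i = i + 4 * i by ring, show 5 * j = j + 4 * j by ring, pow_add A, pow_add B]; group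
          _ = 1 := by rw [pow_mul, pow_mul, hA5, hB5, one_pow, one_pow, one_mul] }
  have hE5 : ∀ g ∈ E, g ^ 5 = 1 := by
    rintro _ ⟨i, j, rfl⟩
    rw [((hAB.pow_left i).pow_right j).mul_pow, ← pow_mul, ← pow_mul, mul_comm i, mul_comm j, pow_mul, pow_mul,
      hA5, hB5, one_pow, one_pow, one_mul]
  have hEp : IsPGroup 5 E := fun g => ⟨1, by rw [pow_one]; exact Subtype.ext (hE5 g g.2)⟩
  have hAE : A ∈ E := ⟨1, 0, by simp⟩
  have hBE : B ∈ E := ⟨0, 1, by simp⟩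
  obtain ⟨k, hk⟩ := hEp.exists_card_eq
  have hk2 : k = 2 := by
    have h2 : k ≤ 2 := by
      by_contra hcon
      have h3 : 5 ^ 3 ∣ 5 ^ k := pow_dvd_pow 5 (by omega)
      exact h125 (h3.trans (hk ▸ Subgroup.card_subgroup_dvd_card E))
    have h3 : 2 ≤ k := by
      by_contra hcon
      have h4 : zpowers A = E := by
        refine Subgroup.eq_of_le_of_card_ge (zpowers_le.2 hAE) ?_
        rw [hk, Nat.card_zpowers, hA]
        calc 5 ^ k ≤ 5 ^ 1 := Nat.pow_le_pow_right (by norm_num) (by omega)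
          _ = 5 := by norm_num
      exact hne (h4 ▸ hBE)
    omega
  obtain ⟨b, i, j, hb⟩ := exists_conj (p := 5) (E := E) (k := 2) (by rw [hk, hk2]) h125 ha
  refine ⟨b, i % 5, Nat.mod_lt _ (by norm_num), j % 5, Nat.mod_lt _ (by norm_num), ?_⟩
  rw [← hmod A hA5, ← hmod B hB5]
  exact hb

/-- the class -/
def D (g : S8) : Prop := orderOf g = 5 ∧ ∃ v : V8, v ≠ 0 ∧ L g v = v

theorem D.conjG {g : S8} (h : D g) (b : G8) : D (MulAut.conjNormal b g) := by
  obtain ⟨ho, v, hv, hgv⟩ := h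
  refine ⟨?_, L b v, ?_, ?_⟩
  · rw [← ho]
    exact orderOf_injective (MulAut.conjNormal b : MulAut S8).toMonoidHom (MulAut.conjNormal b : MulAut S8).injective g
  · intro h0
    apply hv
    have h1 : L b⁻¹ (L b v) = v := by rw [← LinearMap.comp_apply, ← L_mul, inv_mul_cancel, L_one]; rfl
    rw [← h1, h0, map_zero]
  · rw [MulAut.conjNormal_apply, L_mul, L_mul, LinearMap.comp_apply, LinearMap.comp_apply]
    have h1 : L b⁻¹ (L b v) = v := by rw [← LinearMap.comp_apply, ← L_mul, inv_mul_cancel, L_one]; rfl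
    rw [h1, hgv]

theorem D.conj {g : S8} (h : D g) (s : S8) : D (s * g * s⁻¹) := by
  have := h.conjG (s : G8)
  have h1 : MulAut.conjNormal (s : G8) g = s * g * s⁻¹ := Subtype.ext (MulAut.conjNormal_apply _ _)
  rwa [h1] at this

theorem fix_pow {g : G8} {v : V8} (h : L g v = v) (n : ℕ) : L (g ^ n) v = v := by
  induction n with
  | zero => rw [pow_zero, L_one]; rfl
  | succ n ih => rw [pow_succ, L_mul, LinearMap.comp_apply, h, ih]

theorem D.pow {g : S8} (h : D g) {n : ℕ} (hn : ¬ 5 ∣ n) : D (g ^ n) := by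
  obtain ⟨ho, v, hv, hgv⟩ := h
  refine ⟨?_, v, hv, ?_⟩
  · rw [Nat.Coprime.orderOf_pow, ho]
    rw [ho]
    exact (Nat.Prime.coprime_iff_not_dvd Nat.prime_five).2 hn
  · rw [Subgroup.coe_pow]
    exact fix_pow hgv n

/-- an element of `Ω` with a given code, as a product of two elements of odd order -/
theorem exists_s {c : List ℕ} {m : ℕ} (h1 : checkIso c = true) (h2 : powN c m = oneN) (h3 : m % 2 = 1) :
    ∃ s : S8, Rep (L s) c := by
  obtain ⟨X, hX⟩ := exists_g h1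
  exact ⟨⟨X, mem_omega_of_odd h3 ((hX.pow m).one_iff h2)⟩, hX⟩

/-- the data -/
theorem exists_AB : ∃ A B : S8, Rep (L A) c5A ∧ Rep (L B) c5B ∧ orderOf A = 5 ∧ orderOf B = 5 ∧ Commute A B ∧
    B ∉ zpowers A ∧ (∃ h : S8, h * A * h⁻¹ = A ^ 2) ∧ (∃ k : S8, k * A * k⁻¹ = B) := by
  obtain ⟨A, hA⟩ := exists_s (c := c5A) (m := 5) (by decide +kernel) (by decide +kernel) rfl
  obtain ⟨B, hB⟩ := exists_s (c := c5B) (m := 5) (by decide +kernel) (by decide +kernel) rfl
  obtain ⟨h₁, hh₁⟩ := exists_s (c := [231, 225, 237, 243, 63, 164, 148, 11]) (m := 15) (by decide +kernel)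
    (by decide +kernel) rfl
  obtain ⟨h₂, hh₂⟩ := exists_s (c := [234, 250, 52, 90, 245, 131, 240, 246]) (m := 15) (by decide +kernel)
    (by decide +kernel) rfl
  obtain ⟨k₁, hk₁⟩ := exists_s (c := [112, 213, 102, 240, 249, 96, 32, 24]) (m := 3) (by decide +kernel)
    (by decide +kernel) rfl
  obtain ⟨k₂, hk₂⟩ := exists_s (c := [40, 117, 231, 243, 128, 195, 112, 37]) (m := 15) (by decide +kernel)
    (by decide +kernel) rfl
  have hmul : ∀ {s t : S8} {c d : List ℕ}, Rep (L s) c → Rep (L t) d → Rep (L ((s * t : S8) : G8)) (mulN c d) := by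
    intro s t c d hs ht
    rw [Subgroup.coe_mul]
    exact hs.mulG ht
  have hinj : ∀ {s t : S8} {c d : List ℕ}, Rep (L s) c → Rep (L t) d → c = d → s = t := by
    intro s t c d hs ht hcd
    subst hcd
    exact Subtype.ext (hs.inj ht)
  have hAo : orderOf A = 5 := by
    rw [← Subgroup.orderOf_coe]
    exact hA.order (by norm_num) (by decide +kernel)
  have hBo : orderOf B = 5 := by
    rw [← Subgroup.orderOf_coe]
    exact hB.order (by norm_num) (by decide +kernel)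
  refine ⟨A, B, hA, hB, hAo, hBo, hinj (hmul hA hB) (hmul hB hA) (by decide +kernel), ?_, ?_, ?_⟩
  · intro hmem
    obtain ⟨n, hn⟩ := mem_powers_iff_mem_zpowers.2 hmem
    have hA5 : A ^ 5 = 1 := by
      have := pow_orderOf_eq_one A
      rwa [hAo] at this
    have hn' : A ^ n = B := hn
    have h5 : A ^ (n % 5) = B := by
      rw [← hn']
      conv_rhs => rw [← Nat.div_add_mod n 5, pow_add, pow_mul, hA5, one_pow, one_mul]
    have h6 : n % 5 < 5 := Nat.mod_lt _ (by norm_num)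
    have h7 := hA.pow (n % 5)
    rw [← Subgroup.coe_pow, h5] at h7
    have h8 := hB.2 (.inl 0)
    have h9 := h7.2 (.inl 0)
    rw [h9] at h8
    have h10 : ∀ l < 5, (powN c5A l).getD (ix (.inl 0)) 0 ≠ c5B.getD (ix (.inl 0)) 0 ∧
        (powN c5A l).getD (ix (.inl 0)) 0 < 256 := by decide +kernel
    exact (h10 _ h6).1 (dec_inj (h10 _ h6).2 (by decide +kernel) h8)
  · refine ⟨h₁ * h₂, ?_⟩
    rw [mul_inv_eq_iff_eq_mul, pow_two]
    exact hinj (hmul (hmul hh₁ hh₂) hA) (hmul (hmul hA hA) (hmul hh₁ hh₂)) (by decide +kernel)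
  · refine ⟨k₁ * k₂, ?_⟩
    rw [mul_inv_eq_iff_eq_mul]
    exact hinj (hmul (hmul hk₁ hk₂) hA) (hmul hB (hmul hk₁ hk₂)) (by decide +kernel)

/-- the powers of `A` are conjugate -/
theorem conj_pow {G : Type*} [Group G] {A : G} (h5 : A ^ 5 = 1) (h : ∃ h : G, h * A * h⁻¹ = A ^ 2) {i : ℕ}
    (hi : i < 5) (h0 : i ≠ 0) : ∃ s : G, s * A * s⁻¹ = A ^ i := by
  obtain ⟨h, hh⟩ := h
  have e : ∀ (s : G) (n : ℕ), s * A * s⁻¹ = A ^ n → (h * s) * A * (h * s)⁻¹ = A ^ (2 * n) := by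
    intro s n hs
    calc (h * s) * A * (h * s)⁻¹ = h * (s * A * s⁻¹) * h⁻¹ := by group
      _ = (h * A * h⁻¹) ^ n := by rw [hs, _root_.conj_pow]
      _ = A ^ (2 * n) := by rw [hh, pow_mul]
  have e1 : h * A * h⁻¹ = A ^ 2 := hh
  have e2 := e h 2 e1
  have e3 := e _ _ e2
  have h8 : A ^ (2 * (2 * 2)) = A ^ 3 := by
    rw [show 2 * (2 * 2) = 5 + 3 by norm_num, pow_add, h5, one_mul]
  rw [h8] at e3
  have hc : i = 1 ∨ i = 2 ∨ i = 3 ∨ i = 4 := by omega
  rcases hc with rfl | rfl | rfl | rfl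
  · exact ⟨1, by simp⟩
  · exact ⟨h, e1⟩
  · exact ⟨_, e3⟩
  · exact ⟨_, e2⟩

theorem s125 : ¬ 5 ^ 3 ∣ Nat.card S8 := by
  rw [card_s8]
  norm_num

/-- **`D` is a conjugacy class of `Ω`** -/
theorem exists_D : ∃ A : S8, Rep (L A) c5A ∧ D A ∧ ∀ g : S8, D g → ∃ s : S8, s * A * s⁻¹ = g := by
  obtain ⟨A, B, hA, hB, hAo, hBo, hAB, hne, hh, ⟨k, hk⟩⟩ := exists_AB
  have hA5 : A ^ 5 = 1 := by
    have := pow_orderOf_eq_one A
    rwa [hAo] at this
  have hB5 : B ^ 5 = 1 := by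
    have := pow_orderOf_eq_one B
    rwa [hBo] at this
  refine ⟨A, hA, ⟨hAo, dec 19, dec_ne (by norm_num) (by norm_num), ?_⟩, ?_⟩
  · rw [hA.app]
    congr 1
  intro g hg
  obtain ⟨b, i, hi, j, hj, hb⟩ := exists_pow_conj hAo hBo hAB hne s125 hg.1
  have hD := hg.conj b
  rw [hb] at hD
  have hfin : (∃ s : S8, s * A * s⁻¹ = A ^ i * B ^ j) → ∃ s : S8, s * A * s⁻¹ = g := by
    rintro ⟨s, hs⟩
    refine ⟨b⁻¹ * s, ?_⟩
    calc b⁻¹ * s * A * (b⁻¹ * s)⁻¹ = b⁻¹ * (s * A * s⁻¹) * b := by group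
      _ = g := by rw [hs, ← hb]; group
  apply hfin
  by_cases hj0 : j = 0
  · subst hj0
    rw [pow_zero, mul_one] at hD ⊢
    refine conj_pow hA5 hh hi ?_
    rintro rfl
    have := hD.1
    rw [pow_zero, orderOf_one] at this
    omega
  by_cases hi0 : i = 0
  · subst hi0
    rw [pow_zero, one_mul]
    obtain ⟨s, hs⟩ := conj_pow hA5 hh hj hj0
    refine ⟨k * s, ?_⟩
    calc k * s * A * (k * s)⁻¹ = k * (s * A * s⁻¹) * k⁻¹ := by group
      _ = (k * A * k⁻¹) ^ j := by rw [hs, _root_.conj_pow]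
      _ = B ^ j := by rw [hk]
  exfalso
  have h3 : ∃ l t, i * l = 5 * t + 1 ∧ ¬ 5 ∣ l := by
    have h4 : i = 1 ∨ i = 2 ∨ i = 3 ∨ i = 4 := by omega
    rcases h4 with rfl | rfl | rfl | rfl
    · exact ⟨1, 0, rfl, by norm_num⟩
    · exact ⟨3, 1, rfl, by norm_num⟩
    · exact ⟨2, 1, rfl, by norm_num⟩
    · exact ⟨4, 3, rfl, by norm_num⟩
  obtain ⟨l, t, hlt, hl⟩ := h3
  have h4 := hD.pow hl
  have h5 : (A ^ i * B ^ j) ^ l = A * B ^ (j * l % 5) := by
    rw [((hAB.pow_left i).pow_right j).mul_pow, ← pow_mul, hlt, pow_succ, pow_mul, hA5, one_pow, one_mul, ← pow_mul]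
    congr 1
    conv_lhs => rw [← Nat.div_add_mod (j * l) 5, pow_add, pow_mul, hB5, one_pow, one_mul]
  rw [h5] at h4
  have h6 : j * l % 5 ≠ 0 := by
    intro h7
    have h8 := Nat.dvd_of_mod_eq_zero h7
    rcases (Nat.Prime.dvd_mul Nat.prime_five).1 h8 with h9 | h9
    · have := Nat.le_of_dvd (Nat.pos_of_ne_zero hj0) h9
      omega
    · exact hl h9
  have h7 : j * l % 5 < 5 := Nat.mod_lt _ (by norm_num)
  obtain ⟨-, v, hv, hfix⟩ := h4
  have hrep : Rep (L ((A * B ^ (j * l % 5) : S8) : G8)) (mulN c5A (powN c5B (j * l % 5))) := by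
    rw [Subgroup.coe_mul, Subgroup.coe_pow]
    exact hA.mulG (hB.pow _)
  have hs5 : ∀ n < 5, n ≠ 0 → sum5 (mulN c5A (powN c5B n)) = true := by decide +kernel
  exact hv (hrep.no_fix (hs5 _ h7 h6) v hfix)

/-- the singular vectors fixed by an element of the class -/
theorem card_sing {g : S8} (hg : D g) : Nat.card {v : V8 // v ≠ 0 ∧ L g v = v ∧ Q8 v = 0} = 5 := by
  obtain ⟨A, hA, -, hcl⟩ := exists_D
  obtain ⟨s, rfl⟩ := hcl g hg
  have h1 : Nat.card {v : V8 // v ≠ 0 ∧ L A v = v ∧ Q8 v = 0} = 5 := by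
    have h2 : ∀ v : V8, L A v = v ↔ dec (app c5A (enc v)) = v := by
      intro v
      rw [← hA.app, dec_enc]
    simp only [h2]
    rw [Nat.card_eq_fintype_card, Fintype.card_subtype]
    decide +kernel
  rw [← h1]
  have hinv : ∀ (b : G8) (v : V8), L b⁻¹ (L b v) = v := fun b v => by
    rw [← LinearMap.comp_apply, ← L_mul, inv_mul_cancel, L_one]; rfl
  have hinv' : ∀ (b : G8) (v : V8), L b (L b⁻¹ v) = v := fun b v => by
    rw [← LinearMap.comp_apply, ← L_mul, mul_inv_cancel, L_one]; rfl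
  have hcoe : ∀ v, L ((s * A * s⁻¹ : S8) : G8) v = L (s : G8) (L (A : G8) (L (s : G8)⁻¹ v)) := by
    intro v
    rw [Subgroup.coe_mul, Subgroup.coe_mul, Subgroup.coe_inv, L_mul, L_mul]; rfl
  refine Nat.card_congr ⟨fun v => ⟨L (s : G8)⁻¹ v.1, ?_, ?_, ?_⟩, fun v => ⟨L (s : G8) v.1, ?_, ?_, ?_⟩,
    fun v => Subtype.ext (hinv' _ _), fun v => Subtype.ext (hinv _ _)⟩
  · intro h0
    apply v.2.1
    rw [← hinv' s v.1, h0, map_zero]
  · have h3 := v.2.2.1
    rw [hcoe] at h3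
    conv_rhs => rw [← h3]
    rw [hinv]
  · rw [L_iso]; exact v.2.2.2
  · intro h0
    apply v.2.1
    rw [← hinv s v.1, h0, map_zero]
  · rw [hcoe, hinv, v.2.2.1]
  · rw [L_iso]; exact v.2.2.2

end Cfsg.Agent.H884.Oc
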