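import Cfsg.Agent.H884.Oc.PTwo

/-!
# S3938, `Ω⁺₈(2)`: vectors and isometries as natural numbers (helper884)
-/

set_option autoImplicit false
set_option maxRecDepth 100000
set_option linter.unusedSectionVars false
set_option linter.style.haveILetI false

namespace Cfsg.Agent.H884.Oc

open Subgroup Cfsg Cfsg.Agent Cfsg.Agent.H503 Cfsg.Agent.H503.El.O8

/-- vectors -/
abbrev V8 : Type := I8 → ZMod 2

/-- the isometry group -/
abbrev G8 : Type := isometryGroup (ZMod 2) Q8

/-- numbering of the coordinates -/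
def ix : I8 → ℕ := Sum.elim (fun i => (i : ℕ)) (fun i => 4 + (i : ℕ))

/-- decoding -/
def dec (k : ℕ) : V8 := fun i => if k.testBit (ix i) then 1 else 0

theorem dec_xor (a b : ℕ) : dec (a ^^^ b) = dec a + dec b := by
  funext i
  simp only [dec, Pi.add_apply, Nat.testBit_xor]
  cases a.testBit (ix i) <;> cases b.testBit (ix i) <;> decide

theorem dec_zero : dec 0 = 0 := by
  funext i
  simp [dec]

/-- selection -/
def sel (k i x : ℕ) : ℕ := if k.testBit i then x else 0

theorem dec_sel (k i x : ℕ) : dec (sel k i x) = (if k.testBit i then (1 : ZMod 2) else 0) • dec x := by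
  unfold sel
  split_ifs
  · rw [one_smul]
  · rw [zero_smul, dec_zero]

/-- application of a code -/
def app (c : List ℕ) (k : ℕ) : ℕ :=
  sel k 0 (c.getD 0 0) ^^^ (sel k 1 (c.getD 1 0) ^^^ (sel k 2 (c.getD 2 0) ^^^ (sel k 3 (c.getD 3 0) ^^^
    (sel k 4 (c.getD 4 0) ^^^ (sel k 5 (c.getD 5 0) ^^^ (sel k 6 (c.getD 6 0) ^^^ sel k 7 (c.getD 7 0)))))))

/-- `f` has the code `c` -/
def Rep (f : V8 →ₗ[ZMod 2] V8) (c : List ℕ) : Prop :=
  c.length = 8 ∧ ∀ i : I8, f (Pi.single i 1) = dec (c.getD (ix i) 0)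

theorem Rep.app {f : V8 →ₗ[ZMod 2] V8} {c : List ℕ} (h : Rep f c) (k : ℕ) : f (dec k) = dec (app c k) := by
  have h1 : dec k = ∑ i : I8, dec k i • (Pi.single i (1 : ZMod 2) : V8) := by
    funext j
    simp [Finset.sum_apply, Pi.single_apply]
  rw [h1, map_sum]
  simp only [map_smul, h.2]
  rw [Fintype.sum_sum_type, Fin.sum_univ_four, Fin.sum_univ_four]
  unfold Oc.app
  simp only [dec_xor, dec_sel]
  simp only [dec, ix, Sum.elim_inl, Sum.elim_inr, Fin.isValue, Fin.val_zero, Fin.val_one, Fin.val_two,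
    show ((3 : Fin 4) : ℕ) = 3 from rfl, Nat.add_zero, Nat.reduceAdd, add_assoc]
  rfl

/-- multiplication of codes -/
def mulN (c d : List ℕ) : List ℕ := d.map (Oc.app c)

theorem ix_lt (i : I8) : ix i < 8 := by
  rcases i with i | i
  · have := i.2
    show (i : ℕ) < 8
    omega
  · have := i.2
    show 4 + (i : ℕ) < 8
    omega

theorem Rep.mul {f g : V8 →ₗ[ZMod 2] V8} {c d : List ℕ} (hf : Rep f c) (hg : Rep g d) :
    Rep (f ∘ₗ g) (mulN c d) := by
  refine ⟨by rw [mulN, List.length_map, hg.1], fun i => ?_⟩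
  rw [LinearMap.comp_apply, hg.2, hf.app, mulN]
  congr 1
  rw [List.getD_eq_getElem _ _ (by rw [hg.1]; exact ix_lt i),
    List.getD_eq_getElem _ _ (by rw [List.length_map, hg.1]; exact ix_lt i), List.getElem_map]

/-- the code of the identity -/
def oneN : List ℕ := [1, 2, 4, 8, 16, 32, 64, 128]

theorem single_eq (i : I8) : (Pi.single i 1 : V8) = dec (2 ^ ix i) := by
  revert i
  decide +kernel

theorem oneN_getD (i : I8) : oneN.getD (ix i) 0 = 2 ^ ix i := by
  revert i
  decide

theorem rep_one : Rep LinearMap.id oneN := by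
  refine ⟨rfl, fun i => ?_⟩
  rw [LinearMap.id_apply, oneN_getD, single_eq]

theorem Rep.eq {f g : V8 →ₗ[ZMod 2] V8} {c : List ℕ} (hf : Rep f c) (hg : Rep g c) : f = g := by
  apply LinearMap.pi_ext'
  intro i
  apply LinearMap.ext_ring
  rw [LinearMap.comp_apply, LinearMap.comp_apply]
  exact (hf.2 i).trans (hg.2 i).symm

/-- encoding -/
def enc (v : V8) : ℕ := ∑ i : I8, if v i = 1 then 2 ^ ix i else 0

theorem dec_enc (v : V8) : dec (enc v) = v := by
  revert v
  decide +kernel

theorem enc_lt (v : V8) : enc v < 256 := by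
  revert v
  decide +kernel

/-- the quadratic form on codes -/
def qN (k : ℕ) : Bool :=
  xor (k.testBit 0 && k.testBit 4) (xor (k.testBit 1 && k.testBit 5)
    (xor (k.testBit 2 && k.testBit 6) (k.testBit 3 && k.testBit 7)))

theorem bool_aux : ∀ a b c d e f g h : Bool,
    ((if a = true then (1 : ZMod 2) else 0) * (if e = true then 1 else 0) +
      (if b = true then 1 else 0) * (if f = true then 1 else 0) +
      (if c = true then 1 else 0) * (if g = true then 1 else 0) +
      (if d = true then 1 else 0) * (if h = true then 1 else 0)) =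
    if (xor (a && e) (xor (b && f) (xor (c && g) (d && h)))) = true then 1 else 0 := by decide +kernel

theorem q_dec (k : ℕ) : Q8 (dec k) = if qN k = true then 1 else 0 := by
  unfold Q8 quadFormPlus
  rw [Fin.sum_univ_four]
  exact bool_aux (k.testBit 0) (k.testBit 1) (k.testBit 2) (k.testBit 3) (k.testBit 4) (k.testBit 5) (k.testBit 6)
    (k.testBit 7)

end Cfsg.Agent.H884.Oc
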