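import Cfsg.Agent.H884.Oc.Class

/-!
# S3938, `Ω⁺₈(2)`: involutions and elements of order `3` in normal form (helper884)
-/

set_option autoImplicit false
set_option maxRecDepth 100000
set_option linter.unusedSectionVars false
set_option linter.style.haveILetI false

namespace Cfsg.Agent.H884.Oc

open Subgroup Cfsg Cfsg.Agent Cfsg.Agent.H503 Cfsg.Agent.H503.El.O8 Module

/-- the number of moved vectors -/
noncomputable def mv (f : V8 →ₗ[ZMod 2] V8) : ℕ := by
  classical exact (Finset.univ.filter fun v => f v ≠ v).card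

theorem mv_lt {f f' : V8 →ₗ[ZMod 2] V8} (h : ∀ c, f c = c → f' c = c) {v : V8} (hv : f v ≠ v) (hv' : f' v = v) :
    mv f' < mv f := by
  classical
  unfold mv
  apply Finset.card_lt_card
  rw [Finset.ssubset_iff_of_subset]
  · exact ⟨v, by simpa using hv, by simpa using hv'⟩
  · intro c hc
    simp only [Finset.mem_filter, Finset.mem_univ, true_and] at hc ⊢
    exact fun h1 => hc (h c h1)

theorem mv_zero {f : V8 →ₗ[ZMod 2] V8} (h : ∀ v, f v = v) : f = LinearMap.id := LinearMap.ext h

/-- orthogonality to the fixed points -/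
def Of (f : V8 →ₗ[ZMod 2] V8) (vs : List V8) : Prop := ∀ v ∈ vs, ∀ c, f c = c → B v c = 0

theorem add_cancel2 (a b : V8) : a + b + b = a := by rw [add_assoc, v_add_self, add_zero]

theorem two_zero (c : ZMod 2) : c + c = 0 := CharTwo.add_self_eq_zero c

/-- the alternating case -/
theorem peel_t (n : ℕ) : ∀ f : V8 →ₗ[ZMod 2] V8, mv f ≤ n → Iso f → (∀ v, f (f v) = v) → (∀ v, B v (f v) = 0) →
    ∃ m vs, f = actB (List.replicate m .t) vs ∧ Ok (List.replicate m .t) vs ∧ Ind vs ∧ Of f vs := by
  induction n using Nat.strong_induction_on with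
  | _ n ih =>
  intro f hn hf hinv halt
  by_cases hid : ∀ v, f v = v
  · refine ⟨0, [], mv_zero hid, trivial, ind_nil, by simp [Of]⟩
  push Not at hid
  obtain ⟨v, hv⟩ := hid
  set r := v + f v with hr
  have hr0 : r ≠ 0 := by
    intro h
    apply hv
    have := congrArg (· + f v) h
    simp only [hr, add_cancel2, zero_add] at this
    exact this.symm
  obtain ⟨w, hw⟩ : ∃ w, B r w = 1 := by
    by_contra hcon
    push Not at hcon
    exact hr0 (B_nondeg fun w => (z2 _).resolve_right (hcon w))
  set s := w + f w with hs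
  have hfr : f r = r := by rw [hr, map_add, hinv, add_comm]
  have hfs : f s = s := by rw [hs, map_add, hinv, add_comm]
  have hQ : ∀ x, Q8 (x + f x) = 0 := fun x => by rw [Q_add, hf, halt, two_zero, add_zero]
  have hsym : ∀ x y, B x (f y) = B (f x) y := fun x y => by rw [← hf.B x (f y), hinv]
  have hi : ∀ x y, B (x + f x) (y + f y) = 0 := by
    intro x y
    rw [B_add_left, B_add_right, B_add_right, hf.B, hsym]
    linear_combination two_zero (B x y) + two_zero (B (f x) y)
  have hc : ∀ x c, f c = c → B (x + f x) c = 0 := by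
    intro x c hc
    rw [B_add_left, ← hc, hf.B, hc, two_zero]
  have hrs : B r s = 0 := hi v w
  have hsr : B s r = 0 := hi w v
  -- values
  have hvw : B v w + B (f v) w = 1 := by rw [← B_add_left]; exact hw
  have hrfv : B r (f v) = 0 := by rw [hr, B_add_left, halt, B_self, add_zero]
  have hsfv : B s (f v) = 1 := by
    rw [hs, B_add_left, hf.B, B_comm w, B_comm w, add_comm]
    exact hvw
  have hsfw : B s (f w) = 0 := by rw [hs, B_add_left, halt, B_self, add_zero]
  have hrfw : B r (f w) = 1 := by rw [← hfr, hf.B]; exact hw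
  set f' : V8 →ₗ[ZMod 2] V8 := T r s ∘ₗ f with hf'
  have hf'a : ∀ x, f' x = f x + (B r (f x) • s + B s (f x) • r) := fun x => rfl
  have hfix : ∀ c, f c = c → f' c = c := by
    intro c hcc
    rw [hf'a, hcc, hc v c hcc, hc w c hcc, zero_smul, zero_smul, add_zero, add_zero]
  have hv' : f' v = v := by
    rw [hf'a, hrfv, hsfv, zero_smul, one_smul, zero_add, hr, add_comm v, ← add_assoc, v_add_self, zero_add]
  have hw' : f' w = w := by
    rw [hf'a, hrfw, hsfw, zero_smul, one_smul, add_zero, hs, add_comm w, ← add_assoc, v_add_self, zero_add]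
  have hT : ∀ x, T r s (f x) = f (T r s x) := by
    intro x
    rw [T_apply, T_apply, map_add, map_add, map_smul, map_smul, hfr, hfs]
    have e1 : B r (f x) = B r x := by
      have := hf.B r x
      rwa [hfr] at this
    have e2 : B s (f x) = B s x := by
      have := hf.B s x
      rwa [hfs] at this
    rw [e1, e2]
  have hinv' : ∀ x, f' (f' x) = x := by
    intro x
    show T r s (f (T r s (f x))) = x
    rw [← hT, T_sq hrs, hinv]
  have hiso' : Iso f' := (iso_T (hQ v) (hQ w) hrs).comp hf
  have halt' : ∀ x, B x (f' x) = 0 := by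
    intro x
    have h1 : ∃ y, x + f' x = y + f y := by
      refine ⟨x + (B r (f x) • w + B s (f x) • v), ?_⟩
      rw [hf'a, map_add, map_add, map_smul, map_smul, hr, hs, smul_add, smul_add]
      abel
    obtain ⟨y, hy⟩ := h1
    have h2 := hQ y
    rw [← hy, Q_add, hiso', two_zero, zero_add] at h2
    exact h2
  have hlt : mv f' < mv f := mv_lt hfix hv hv'
  obtain ⟨m, vs, he, hok, hind, hof⟩ := ih (mv f') (lt_of_lt_of_le hlt hn) f' le_rfl hiso' hinv' halt'
  have hfr' : f' r = r := hfix r hfr
  have hfs' : f' s = s := hfix s hfs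
  refine ⟨m + 1, r :: s :: vs, ?_, ?_, ?_, ?_⟩
  · rw [List.replicate_succ]
    show f = T r s ∘ₗ actB (List.replicate m .t) vs
    rw [← he]
    apply LinearMap.ext
    intro x
    show f x = T r s (T r s (f x))
    rw [T_sq hrs]
  · rw [List.replicate_succ]
    refine ⟨⟨hQ v, hQ w, hrs⟩, fun x hx => ⟨?_, ?_⟩, hok⟩
    · rw [B_comm]; exact hof x hx r hfr'
    · rw [B_comm]; exact hof x hx s hfs'
  · have hwr : B s w = 0 := by rw [hs, B_add_left, B_self, B_comm, halt, add_zero]
    have hsv : B s v = 1 := by
      have : B s v = B s (f v) := by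
        have := hf.B s v
        rw [hfs] at this
        exact this.symm
      rw [this, hsfv]
    refine (hind.cons (z := v) hsv (fun x hx => hof x hx v hv')).cons (z := w) hw ?_
    intro x hx
    rcases List.mem_cons.1 hx with rfl | hx
    · exact hwr
    · exact hof x hx w hw'
  · intro x hx c hcc
    rcases List.mem_cons.1 hx with rfl | hx
    · exact hc v c hcc
    rcases List.mem_cons.1 hx with rfl | hx
    · exact hc w c hcc
    · exact hof x hx c (hfix c hcc)

/-- **involutions** -/
theorem peel_two (n : ℕ) : ∀ f : V8 →ₗ[ZMod 2] V8, mv f ≤ n → Iso f → (∀ v, f (f v) = v) →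
    ∃ j m vs, f = actB (List.replicate j .r ++ List.replicate m .t) vs ∧
      Ok (List.replicate j .r ++ List.replicate m .t) vs ∧ Ind vs ∧ Of f vs := by
  induction n using Nat.strong_induction_on with
  | _ n ih =>
  intro f hn hf hinv
  by_cases halt : ∀ v, B v (f v) = 0
  · obtain ⟨m, vs, h⟩ := peel_t n f hn hf hinv halt
    exact ⟨0, m, vs, by simpa using h⟩
  push Not at halt
  obtain ⟨v, hv1⟩ := halt
  have hvf : B v (f v) = 1 := (z2 _).resolve_left hv1
  set u := v + f v with hu
  have hQu : Q8 u = 1 := by rw [hu, Q_add, hf, two_zero, zero_add, hvf]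
  have hfu : f u = u := by rw [hu, map_add, hinv, add_comm]
  have hc : ∀ c, f c = c → B u c = 0 := by
    intro c hc
    rw [hu, B_add_left, ← hc, hf.B, hc, two_zero]
  have hv : f v ≠ v := by
    intro h
    rw [h, B_self] at hvf
    exact absurd hvf (by decide)
  set f' : V8 →ₗ[ZMod 2] V8 := R u ∘ₗ f with hf'
  have hf'a : ∀ x, f' x = f x + B u (f x) • u := fun x => rfl
  have hfix : ∀ c, f c = c → f' c = c := by
    intro c hcc
    rw [hf'a, hcc, hc c hcc, zero_smul, add_zero]
  have hv' : f' v = v := by
    have h1 : B u (f v) = 1 := by rw [hu, B_add_left, hvf, B_self, add_zero]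
    rw [hf'a, h1, one_smul, hu, add_comm v, ← add_assoc, v_add_self, zero_add]
  have hT : ∀ x, R u (f x) = f (R u x) := by
    intro x
    rw [R_apply, R_apply, map_add, map_smul, hfu]
    have e1 : B u (f x) = B u x := by
      have := hf.B u x
      rwa [hfu] at this
    rw [e1]
  have hinv' : ∀ x, f' (f' x) = x := by
    intro x
    show R u (f (R u (f x))) = x
    rw [← hT, R_sq, hinv]
  have hiso' : Iso f' := (iso_R hQu).comp hf
  have hlt : mv f' < mv f := mv_lt hfix hv hv'
  obtain ⟨j, m, vs, he, hok, hind, hof⟩ := ih (mv f') (lt_of_lt_of_le hlt hn) f' le_rfl hiso' hinv'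
  have hfu' : f' u = u := hfix u hfu
  refine ⟨j + 1, m, u :: vs, ?_, ?_, ?_, ?_⟩
  · rw [List.replicate_succ, List.cons_append]
    show f = R u ∘ₗ actB (List.replicate j .r ++ List.replicate m .t) vs
    rw [← he]
    apply LinearMap.ext
    intro x
    show f x = R u (R u (f x))
    rw [R_sq]
  · rw [List.replicate_succ, List.cons_append]
    refine ⟨hQu, fun x hx => ?_, hok⟩
    rw [B_comm]; exact hof x hx u hfu'
  · refine hind.cons (z := v) ?_ (fun x hx => hof x hx v hv')
    rw [hu, B_add_left, B_self, zero_add, B_comm, hvf]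
  · intro x hx c hcc
    rcases List.mem_cons.1 hx with rfl | hx
    · exact hc c hcc
    · exact hof x hx c (hfix c hcc)

/-- the rotation of an anisotropic plane -/
theorem Z_apply {v w : V8} (h : B v w = 1) (x : V8) : (R v ∘ₗ R w) x = x + (B w x • w + (B v x + B w x) • v) := by
  rw [LinearMap.comp_apply, R_apply, R_apply, B_add_right, B_smul_right, h, mul_one]
  abel

theorem Z'_apply {v w : V8} (h : B v w = 1) (x : V8) : (R w ∘ₗ R v) x = x + (B v x • v + (B w x + B v x) • w) :=
  Z_apply (by rw [B_comm]; exact h) x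

theorem Z_Z' {v w : V8} (x : V8) : (R v ∘ₗ R w) ((R w ∘ₗ R v) x) = x := by
  show R v (R w (R w (R v x))) = x
  rw [R_sq, R_sq]

/-- the cube of the rotation -/
theorem Z_cube {v w : V8} (h : B v w = 1) (x : V8) :
    (R w ∘ₗ R v) ((R w ∘ₗ R v) ((R w ∘ₗ R v) x)) = x := by
  have h' : B w v = 1 := by rw [B_comm]; exact h
  rw [Z'_apply h, Z'_apply h, Z'_apply h]
  simp only [B_add_right, B_smul_right, B_self, h, h', mul_zero, mul_one, add_zero, zero_add]
  generalize B v x = a
  generalize B w x = b
  rcases z2 a with rfl | rfl <;> rcases z2 b with rfl | rfl <;>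
    simp only [add_zero, zero_add, two_zero, zero_smul, one_smul]
  all_goals
    (funext i; simp only [Pi.add_apply]; generalize x i = p; generalize v i = q; generalize w i = s
     revert p q s; decide)

/-- **elements of order `3`** -/
theorem peel_three (n : ℕ) : ∀ f : V8 →ₗ[ZMod 2] V8, mv f ≤ n → Iso f → (∀ v, f (f (f v)) = v) →
    ∃ k vs, f = actB (List.replicate k .z) vs ∧ Ok (List.replicate k .z) vs ∧ Ind vs ∧ Of f vs := by
  induction n using Nat.strong_induction_on with
  | _ n ih =>
  intro f hn hf hinv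
  by_cases hid : ∀ v, f v = v
  · refine ⟨0, [], mv_zero hid, trivial, ind_nil, by simp [Of]⟩
  push Not at hid
  obtain ⟨v0, hv0⟩ := hid
  -- the vector
  obtain ⟨v, hN, hQv⟩ : ∃ v, v + (f v + f (f v)) = 0 ∧ Q8 v = 1 := by
    set p := v0 + f v0 with hp
    have hp0 : p ≠ 0 := by
      intro h
      apply hv0
      have := congrArg (· + f v0) h
      simp only [hp, add_cancel2, zero_add] at this
      exact this.symm
    have hpN : p + (f p + f (f p)) = 0 := by
      rw [hp, map_add, map_add, hinv]
      have e1 := v_add_self v0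
      have e2 := v_add_self (f v0)
      have e3 := v_add_self (f (f v0))
      calc v0 + f v0 + (f v0 + f (f v0) + (f (f v0) + v0))
          = (v0 + v0) + ((f v0 + f v0) + (f (f v0) + f (f v0))) := by abel
        _ = 0 := by rw [e1, e2, e3, add_zero, add_zero]
    obtain ⟨z, hz⟩ : ∃ z, B p z = 1 := by
      by_contra hcon
      push Not at hcon
      exact hp0 (B_nondeg fun w => (z2 _).resolve_right (hcon w))
    set z' := f z + f (f z) with hz'
    have hzN : z' + (f z' + f (f z')) = 0 := by
      rw [hz', map_add, map_add, hinv]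
      have e1 := v_add_self z
      have e2 := v_add_self (f z)
      have e3 := v_add_self (f (f z))
      calc f z + f (f z) + (f (f z) + z + (z + f z))
          = (z + z) + ((f z + f z) + (f (f z) + f (f z))) := by abel
        _ = 0 := by rw [e1, e2, e3, add_zero, add_zero]
    have hpz' : B p z' = 1 := by
      have e1 : B p (f z) = B (f (f p)) z := by
        rw [← hf.B p (f z), ← hf.B (f p) (f (f z)), hinv]
      have e2 : B p (f (f z)) = B (f p) z := by
        rw [← hf.B p (f (f z)), hinv]
      have e3 : B p z + (B (f p) z + B (f (f p)) z) = 0 := by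
        rw [← B_add_left, ← B_add_left, hpN, B_zero_left]
      rw [hz', B_add_right, e1, e2]
      rw [hz] at e3
      have h4 : B (f p) z + B (f (f p)) z = 1 := by
        have := congrArg (· + (1 : ZMod 2)) e3
        simp only [zero_add] at this
        rw [add_comm, ← add_assoc, two_zero, zero_add] at this
        exact this
      rw [add_comm]
      exact h4
    rcases z2 (Q8 p) with h1 | h1
    · rcases z2 (Q8 z') with h2 | h2
      · refine ⟨p + z', ?_, ?_⟩
        · rw [map_add f p z', map_add f (f p) (f z')]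
          calc p + z' + (f p + f z' + (f (f p) + f (f z')))
              = (p + (f p + f (f p))) + (z' + (f z' + f (f z'))) := by abel
            _ = 0 := by rw [hpN, hzN, add_zero]
        · rw [Q_add, h1, h2, hpz', zero_add, zero_add]
      · exact ⟨z', hzN, h2⟩
    · exact ⟨p, hpN, h1⟩
  set w := f v with hw
  have hfw : f w = v + w := by
    have : f w = v + w + (v + (w + f w)) := by
      rw [show v + w + (v + (w + f w)) = (v + v) + ((w + w) + f w) by abel, v_add_self, v_add_self, zero_add, zero_add]
    rw [this, hN, add_zero]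
  have hQw : Q8 w = 1 := by rw [hw, hf, hQv]
  have hvw : B v w = 1 := by
    have h1 : Q8 (v + w) = 1 := by rw [← hfw, hf, hQw]
    rw [Q_add, hQv, hQw, two_zero, zero_add] at h1
    exact h1
  have hwv : B w v = 1 := by rw [B_comm, hvw]
  have hc : ∀ c, f c = c → B v c = 0 ∧ B w c = 0 := by
    intro c hcc
    have e1 : B w c = B v c := by
      have := hf.B v c
      rwa [hcc] at this
    have e2 : B (f w) c = B w c := by
      have := hf.B w c
      rwa [hcc] at this
    rw [hfw, B_add_left, e1, two_zero] at e2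
    exact ⟨e2.symm, e1.trans e2.symm⟩
  have hvne : f v ≠ v := by
    intro h
    have h1 : w = v := h
    rw [h1, B_self] at hvw
    exact absurd hvw (by decide)
  set f' : V8 →ₗ[ZMod 2] V8 := (R w ∘ₗ R v) ∘ₗ f with hf'
  have hf'a : ∀ x, f' x = (R w ∘ₗ R v) (f x) := fun x => rfl
  have hfix : ∀ c, f c = c → f' c = c := by
    intro c hcc
    rw [hf'a, hcc, Z'_apply hvw, (hc c hcc).1, (hc c hcc).2]
    simp
  have hv' : f' v = v := by
    rw [hf'a, ← hw, Z'_apply hvw, B_self, hvw, zero_add, one_smul, one_smul]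
    rw [show w + (v + w) = (w + w) + v by abel, v_add_self, zero_add]
  have hw' : f' w = w := by
    rw [hf'a, hfw, Z'_apply hvw, B_add_right, B_add_right, B_self, B_self, hvw, hwv, zero_add, add_zero, two_zero,
      zero_smul, add_zero, one_smul]
    rw [show v + w + v = (v + v) + w by abel, v_add_self, zero_add]
  have hT : ∀ x, (R w ∘ₗ R v) (f x) = f ((R w ∘ₗ R v) x) := by
    intro x
    rw [Z'_apply hvw, Z'_apply hvw, map_add, map_add, map_smul, map_smul, ← hw, hfw]
    have e1 : B w (f x) = B v x := hf.B v x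
    have e2 : B (f w) (f x) = B w x := hf.B w x
    rw [hfw, B_add_left, e1] at e2
    have e3 : B v (f x) = B w x + B v x := by
      rw [← e2, add_assoc, two_zero, add_zero]
    rw [e1, e3]
    module
  have hinv' : ∀ x, f' (f' (f' x)) = x := by
    intro x
    show (R w ∘ₗ R v) (f ((R w ∘ₗ R v) (f ((R w ∘ₗ R v) (f x))))) = x
    rw [hT x, hT (f ((R w ∘ₗ R v) x)), hT ((R w ∘ₗ R v) x), hinv, Z_cube hvw]
  have hiso' : Iso f' := ((iso_R hQw).comp (iso_R hQv)).comp hf
  have hlt : mv f' < mv f := mv_lt hfix hvne hv'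
  obtain ⟨k, vs, he, hok, hind, hof⟩ := ih (mv f') (lt_of_lt_of_le hlt hn) f' le_rfl hiso' hinv'
  refine ⟨k + 1, v :: w :: vs, ?_, ?_, ?_, ?_⟩
  · rw [List.replicate_succ]
    show f = (R v ∘ₗ R w) ∘ₗ actB (List.replicate k .z) vs
    rw [← he]
    apply LinearMap.ext
    intro x
    show f x = (R v ∘ₗ R w) ((R w ∘ₗ R v) (f x))
    rw [Z_Z']
  · rw [List.replicate_succ]
    refine ⟨⟨hQv, hQw, hvw⟩, fun x hx => ⟨?_, ?_⟩, hok⟩
    · rw [B_comm]; exact hof x hx v hv'
    · rw [B_comm]; exact hof x hx w hw'
  · refine (hind.cons (z := v) hwv (fun x hx => hof x hx v hv')).cons (z := w) hvw ?_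
    intro x hx
    rcases List.mem_cons.1 hx with rfl | hx
    · exact B_self w
    · exact hof x hx w hw'
  · intro x hx c hcc
    rcases List.mem_cons.1 hx with rfl | hx
    · exact (hc c hcc).1
    rcases List.mem_cons.1 hx with rfl | hx
    · exact (hc c hcc).2
    · exact hof x hx c (hfix c hcc)

end Cfsg.Agent.H884.Oc
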