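import Cfsg.Agent.H884.Oc.Peel

/-!
# S3938, `Ω⁺₈(2)`: representatives of the elements of prime order (helper884)
-/

set_option autoImplicit false
set_option maxRecDepth 100000
set_option linter.unusedSectionVars false
set_option linter.style.haveILetI false
set_option linter.unusedVariables false

namespace Cfsg.Agent.H884.Oc

open Subgroup Cfsg Cfsg.Agent Cfsg.Agent.H503 Cfsg.Agent.H503.El.O8 Module

/-- the property of automorphisms -/
def Gd (a : MulAut S8) : Prop :=
  ∃ x : S8, ∀ K : Subgroup S8, x ∈ K → (∀ k ∈ K, a k ∈ K) → 7 ∣ Nat.card K ∧ 25 ∣ Nat.card K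

theorem Gd.conj {a : MulAut S8} (h : Gd a) (b : MulAut S8) : Gd (b * a * b⁻¹) := by
  obtain ⟨x, hx⟩ := h
  refine ⟨b x, fun K hxK hK => ?_⟩
  have hc : Nat.card (K.comap b.toMonoidHom : Subgroup S8) = Nat.card K := by
    have h1 : (K.comap b.toMonoidHom).map b.toMonoidHom = K := Subgroup.map_comap_eq_self_of_surjective b.surjective K
    have h2 : Nat.card ((K.comap b.toMonoidHom).map b.toMonoidHom : Subgroup S8) =
        Nat.card (K.comap b.toMonoidHom : Subgroup S8) := Subgroup.card_map_of_injective b.injective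
    rw [h1] at h2
    exact h2.symm
  rw [← hc]
  refine hx _ hxK fun k hk => ?_
  have h1 := hK (b k) hk
  show b (a k) ∈ K
  simpa using h1

theorem Gd.of_conj {a : MulAut S8} (b : MulAut S8) (h : Gd (b * a * b⁻¹)) : Gd a := by
  have := h.conj b⁻¹
  simpa [mul_assoc] using this

theorem pow_mem_of {a : MulAut S8} {K : Subgroup S8} (hK : ∀ k ∈ K, a k ∈ K) (n : ℕ) : ∀ k ∈ K, (a ^ n) k ∈ K := by
  induction n with
  | zero => intro k hk; simpa using hk
  | succ n ih =>
    intro k hk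
    rw [pow_succ]
    exact ih _ (hK k hk)

theorem Gd.of_pow {a : MulAut S8} {n : ℕ} (h : Gd (a ^ n)) : Gd a := by
  obtain ⟨x, hx⟩ := h
  exact ⟨x, fun K hxK hK => hx K hxK (pow_mem_of hK n)⟩

/-- the property of isometries -/
def Gg (a : G8) : Prop := Gd (MulAut.conjNormal a)

theorem Gg.of_conj {a : G8} (b : G8) (h : Gg (b * a * b⁻¹)) : Gg a := by
  unfold Gg at h ⊢
  rw [map_mul, map_mul, map_inv] at h
  exact h.of_conj

theorem Gg.of_pow {a : G8} {n : ℕ} (h : Gg (a ^ n)) : Gg a := by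
  unfold Gg at h ⊢
  rw [map_pow] at h
  exact h.of_pow

theorem gg_of_check {a : G8} {ca : List ℕ} (ha : Rep (L a) ca) {c : Crt} (hc : check ca c = true) : Gg a := by
  obtain ⟨x, hx⟩ := of_check ha hc
  exact ⟨x, fun K hxK hK => hx K hxK (hK x hxK)⟩

/-- the bilinear form on codes -/
def bN (u v : ℕ) : Bool := xor (qN (u ^^^ v)) (xor (qN u) (qN v))

theorem b_dec (u v : ℕ) : B (dec u) (dec v) = if bN u v = true then 1 else 0 := by
  unfold B bN
  rw [← dec_xor, q_dec, q_dec, q_dec]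
  cases qN (u ^^^ v) <;> cases qN u <;> cases qN v <;> decide

/-- a code from a function on codes -/
theorem rep_of {f : V8 →ₗ[ZMod 2] V8} {φ : ℕ → ℕ} (h : ∀ k, f (dec k) = dec (φ k)) :
    Rep f ((List.range 8).map fun i => φ (2 ^ i)) := by
  refine ⟨by simp, fun i => ?_⟩
  rw [single_eq, h]
  congr 1
  rw [List.getD_eq_getElem _ _ (by simpa using ix_lt i)]
  simp

/-- reflections on codes -/
def codeR (u : ℕ) : List ℕ := (List.range 8).map fun i => 2 ^ i ^^^ (bif bN u (2 ^ i) then u else 0)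

theorem dec_bif (b : Bool) (u : ℕ) : dec (bif b then u else 0) = (if b = true then (1 : ZMod 2) else 0) • dec u := by
  cases b
  · simp [dec_zero]
  · simp

theorem rep_R (u : ℕ) : Rep (R (dec u)) (codeR u) := by
  refine rep_of (φ := fun k => k ^^^ (bif bN u k then u else 0)) fun k => ?_
  rw [R_apply, b_dec, dec_xor, dec_bif]

/-- long root elements on codes -/
def codeT (r s : ℕ) : List ℕ :=
  (List.range 8).map fun i => 2 ^ i ^^^ ((bif bN r (2 ^ i) then s else 0) ^^^ (bif bN s (2 ^ i) then r else 0))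

theorem rep_T (r s : ℕ) : Rep (T (dec r) (dec s)) (codeT r s) := by
  refine rep_of (φ := fun k => k ^^^ ((bif bN r k then s else 0) ^^^ (bif bN s k then r else 0))) fun k => ?_
  rw [T_apply, b_dec, b_dec, dec_xor, dec_xor, dec_bif, dec_bif]

/-- products on codes -/
def codeB : List Bk → List ℕ → List ℕ
  | .r :: t, u :: vs => mulN (codeR u) (codeB t vs)
  | .t :: t, u :: v :: vs => mulN (codeT u v) (codeB t vs)
  | .z :: t, u :: v :: vs => mulN (mulN (codeR u) (codeR v)) (codeB t vs)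
  | _, _ => oneN

theorem rep_B : ∀ (t : List Bk) (us : List ℕ), Rep (actB t (us.map dec)) (codeB t us)
  | [], [] => rep_one
  | [], _ :: _ => rep_one
  | .r :: t, u :: us => (rep_R u).mul (rep_B t us)
  | .t :: t, u :: v :: us => (rep_T u v).mul (rep_B t us)
  | .z :: t, u :: v :: us => ((rep_R u).mul (rep_R v)).mul (rep_B t us)
  | .r :: t, [] => rep_one
  | .t :: t, [] => rep_one
  | .t :: t, [u] => rep_one
  | .z :: t, [] => rep_one
  | .z :: t, [u] => rep_one

/-- the Gram matrix on codes -/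
def okN : List Bk → List ℕ → Bool
  | .r :: t, u :: vs => qN u && (vs.all (fun v => !bN u v) && okN t vs)
  | .t :: t, u :: v :: vs => (!qN u && (!qN v && !bN u v)) && (vs.all (fun w => !bN u w && !bN v w) && okN t vs)
  | .z :: t, u :: v :: vs => (qN u && (qN v && bN u v)) && (vs.all (fun w => !bN u w && !bN v w) && okN t vs)
  | [], [] => true
  | _, _ => false

theorem b_zero {u v : ℕ} (h : bN u v = false) : B (dec u) (dec v) = 0 := by rw [b_dec, h]; rfl

theorem b_one {u v : ℕ} (h : bN u v = true) : B (dec u) (dec v) = 1 := by rw [b_dec, h]; rfl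

theorem q_zero {u : ℕ} (h : qN u = false) : Q8 (dec u) = 0 := by rw [q_dec, h]; rfl

theorem q_one {u : ℕ} (h : qN u = true) : Q8 (dec u) = 1 := by rw [q_dec, h]; rfl

theorem ok_of : ∀ (t : List Bk) (us : List ℕ), okN t us = true → Ok t (us.map dec)
  | [], [], _ => trivial
  | .r :: t, u :: us, h => by
    simp only [okN, Bool.and_eq_true, List.all_eq_true, Bool.not_eq_true'] at h
    refine ⟨q_one h.1, fun v hv => ?_, ok_of t us h.2.2⟩
    obtain ⟨w, hw, rfl⟩ := List.mem_map.1 hv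
    exact b_zero (h.2.1 w hw)
  | .t :: t, u :: v :: us, h => by
    simp only [okN, Bool.and_eq_true, List.all_eq_true, Bool.not_eq_true'] at h
    refine ⟨⟨q_zero h.1.1, q_zero h.1.2.1, b_zero h.1.2.2⟩, fun x hx => ?_, ok_of t us h.2.2⟩
    obtain ⟨w, hw, rfl⟩ := List.mem_map.1 hx
    exact ⟨b_zero (h.2.1 w hw).1, b_zero (h.2.1 w hw).2⟩
  | .z :: t, u :: v :: us, h => by
    simp only [okN, Bool.and_eq_true, List.all_eq_true, Bool.not_eq_true'] at h
    refine ⟨⟨q_one h.1.1, q_one h.1.2.1, b_one h.1.2.2⟩, fun x hx => ?_, ok_of t us h.2.2⟩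
    obtain ⟨w, hw, rfl⟩ := List.mem_map.1 hx
    exact ⟨b_zero (h.2.1 w hw).1, b_zero (h.2.1 w hw).2⟩

/-- independence on codes -/
def indN : List ℕ → List ℕ → Bool
  | [], _ => true
  | u :: us, z :: zs => bN u z && (us.all (fun v => !bN v z) && indN us zs)
  | _, _ => false

theorem ind_of : ∀ (us zs : List ℕ), indN us zs = true → Ind (us.map dec)
  | [], _, _ => ind_nil
  | u :: us, z :: zs, h => by
    simp only [indN, Bool.and_eq_true, List.all_eq_true, Bool.not_eq_true'] at h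
    refine (ind_of us zs h.2.2).cons (z := dec z) (b_one h.1) fun v hv => ?_
    obtain ⟨w, hw, rfl⟩ := List.mem_map.1 hv
    exact b_zero (h.2.1 w hw)

/-- the check of a class -/
def chk (t : List Bk) (us ds : List ℕ) (c : Crt) : Bool := okN t us && (indN us ds && check (codeB t us) c)

theorem exists_G {g : V8 ≃ₗ[ZMod 2] V8} (hg : ∀ v, Q8 (g v) = Q8 v) : ∃ b : G8, ∀ v, L b v = g v := by
  have hmem : g ∈ H957.isoQ (LieClassical.OmegaReindex.quadPlus 4 (ZMod 2)) := fun v => hg v
  refine ⟨⟨H957.glOf g, H957.glOf_mem hmem⟩, fun v => ?_⟩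
  rw [L_apply]
  exact H957.glOf_mulVec g v

theorem gg_of_chk {t : List Bk} {us ds : List ℕ} {c : Crt} (h : chk t us ds c = true) {a : G8} {vs : List V8}
    (hf : L a = actB t vs) (hok : Ok t vs) (hind : Ind vs) : Gg a := by
  unfold chk at h
  rw [Bool.and_eq_true, Bool.and_eq_true] at h
  obtain ⟨g, hg, hgv⟩ := exists_map hok (ok_of t us h.1) hind (ind_of us ds h.2.1)
  obtain ⟨b, hb⟩ := exists_G hg
  refine Gg.of_conj b (gg_of_check (ca := codeB t us) ?_ h.2.2)
  have h1 : L (b * a * b⁻¹) = actB t (us.map dec) := by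
    apply LinearMap.ext
    intro v
    have h2 : L b (L b⁻¹ v) = v := by
      rw [← LinearMap.comp_apply, ← L_mul, mul_inv_cancel, L_one]; rfl
    rw [L_mul, L_mul, LinearMap.comp_apply, LinearMap.comp_apply, hf, hb, conj_act hg, hgv, ← hb, h2]
  rw [h1]
  exact rep_B t us

theorem of_orth {vs : List V8} (h : ∀ u ∈ vs, ∀ v ∈ vs, B u v = 0) (hi : Ind vs) : vs.length ≤ 4 := by
  set W := Submodule.span (ZMod 2) (Set.range vs.get) with hW
  have h1 : finrank (ZMod 2) W = vs.length := by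
    rw [hW, finrank_span_eq_card hi, Fintype.card_fin]
  have h2 := LinearMap.BilinForm.finrank_orthogonal (B := QuadraticMap.polarBilin QP) hnd8 W
  have h3 : finrank (ZMod 2) V8 = 8 := by simp
  have h4 : W ≤ LinearMap.BilinForm.orthogonal (QuadraticMap.polarBilin QP) W := by
    rw [hW, Submodule.span_le]
    rintro _ ⟨i, rfl⟩
    rw [SetLike.mem_coe, LinearMap.BilinForm.mem_orthogonal_iff]
    intro w hw
    induction hw using Submodule.span_induction with
    | mem w hw =>
      obtain ⟨j, rfl⟩ := hw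
      have := h _ (List.get_mem vs j) _ (List.get_mem vs i)
      rwa [B_eq] at this
    | zero => simp
    | add a b _ _ ha hb => rw [map_add, LinearMap.add_apply, ha, hb, add_zero]
    | smul c a _ ha => rw [map_smul, LinearMap.smul_apply, ha, smul_zero]
  have h5 := Submodule.finrank_mono h4
  rw [h2, h3, h1] at h5
  omega

theorem orth_of_ok : ∀ (t : List Bk) (vs : List V8), Bk.z ∉ t → Ok t vs → ∀ u ∈ vs, ∀ v ∈ vs, B u v = 0
  | [], [], _, _ => by simp
  | .r :: t, u :: vs, ht, h => by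
    have ih := orth_of_ok t vs (fun h => ht (List.mem_cons_of_mem _ h)) h.2.2
    intro x hx y hy
    rw [List.mem_cons] at hx hy
    rcases hx with hx | hx <;> rcases hy with hy | hy
    · rw [hx, hy]; exact B_self _
    · rw [hx]; exact h.2.1 y hy
    · rw [hy, B_comm]; exact h.2.1 x hx
    · exact ih x hx y hy
  | .t :: t, u :: v :: vs, ht, h => by
    have ih := orth_of_ok t vs (fun h => ht (List.mem_cons_of_mem _ h)) h.2.2
    intro x hx y hy
    rw [List.mem_cons, List.mem_cons] at hx hy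
    rcases hx with hx | hx | hx <;> rcases hy with hy | hy | hy
    · rw [hx, hy]; exact B_self _
    · rw [hx, hy]; exact h.1.2.2
    · rw [hx]; exact (h.2.1 y hy).1
    · rw [hx, hy, B_comm]; exact h.1.2.2
    · rw [hx, hy]; exact B_self _
    · rw [hx]; exact (h.2.1 y hy).2
    · rw [hy, B_comm]; exact (h.2.1 x hx).1
    · rw [hy, B_comm]; exact (h.2.1 x hx).2
    · exact ih x hx y hy
  | .z :: t, _, ht, _ => absurd (List.mem_cons_self) ht

theorem len_ok : ∀ (j m : ℕ) (vs : List V8), Ok (List.replicate j .r ++ List.replicate m .t) vs →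
    vs.length = j + 2 * m
  | 0, 0, [], _ => rfl
  | 0, m + 1, u :: v :: vs, h => by
    have h2 : Ok (List.replicate m .t) vs := h.2.2
    have := len_ok 0 m vs (by simpa using h2)
    simp only [List.length_cons, this]
    ring
  | j + 1, m, u :: vs, h => by
    have := len_ok j m vs h.2.2
    simp only [List.length_cons, this]
    ring

theorem len_z : ∀ (k : ℕ) (vs : List V8), Ok (List.replicate k .z) vs → vs.length = 2 * k
  | 0, [], _ => rfl
  | k + 1, u :: v :: vs, h => by
    have := len_z k vs h.2.2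
    simp only [List.length_cons, this]
    ring

theorem ci10 : ∃ c, chk [.r] [17] [1] c = true :=
  ⟨⟨[208, 133, 117, 105, 115, 14, 190, 112], 15, [16, 2, 4, 8, 1, 32, 64, 128], [false, false, true], 1, [false, true], 3, 27, [false], 3⟩, by decide +kernel⟩

theorem ci20 : ∃ c, chk [.r, .r] [17, 19] [33, 1] c = true :=
  ⟨⟨[217, 66, 37, 26, 45, 22, 193, 110], 7, [3, 2, 4, 8, 18, 51, 64, 128], [false], 1, [false, false, false, true], 2, 2, [false, true], 1⟩, by decide +kernel⟩

theorem ci30 : ∃ c, chk [.r, .r, .r] [17, 19, 21] [97, 32, 1] c = true :=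
  ⟨⟨[206, 90, 195, 85, 51, 230, 97, 41], 5, [22, 2, 4, 8, 7, 51, 85, 128], [false, false, false, true], 1, [false, true], 2, 22, [false], 1⟩, by decide +kernel⟩

theorem ci40 : ∃ c, chk [.r, .r, .r, .r] [17, 19, 21, 25] [225, 32, 64, 1] c = true :=
  ⟨⟨[74, 207, 235, 60, 20, 125, 117, 111], 7, [15, 2, 4, 8, 30, 51, 85, 153], [false], 1, [false, false, true, true], 1, 14, [false, true], 1⟩, by decide +kernel⟩

theorem ci01 : ∃ c, chk [.t] [1, 2] [16, 32] c = true :=
  ⟨⟨[30, 14, 222, 2, 11, 159, 4, 160], 15, [1, 2, 4, 8, 18, 33, 64, 128], [false, false, false, false, true], 1, [false, true], 1, 11, [false], 3⟩, by decide +kernel⟩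

theorem ci11 : ∃ c, chk [.r, .t] [17, 2, 4] [1, 32, 64] c = true :=
  ⟨⟨[144, 93, 194, 80, 231, 18, 189, 59], 5, [16, 2, 4, 8, 1, 36, 66, 128], [false, false, false, true], 1, [false, true], 2, 18, [false], 1⟩, by decide +kernel⟩

theorem ci21 : ∃ c, chk [.r, .r, .t] [17, 19, 4, 8] [33, 1, 64, 128] c = true :=
  ⟨⟨[224, 22, 118, 87, 30, 204, 28, 16], 7, [3, 2, 4, 8, 18, 51, 72, 132], [false], 1, [false, false, true, true], 1, 2, [false, true], 1⟩, by decide +kernel⟩

theorem ci02 : ∃ c, chk [.t, .t] [1, 2, 4, 8] [16, 32, 64, 128] c = true :=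
  ⟨⟨[22, 134, 175, 118, 115, 14, 112, 189], 15, [1, 2, 4, 8, 18, 33, 72, 132], [false, false, true], 1, [false, true], 1, 29, [false], 3⟩, by decide +kernel⟩

theorem cz1 : ∃ c, chk [.z] [17, 35] [1, 2] c = true :=
  ⟨⟨[95, 144, 219, 36, 189, 126, 41, 22], 7, [51, 33, 4, 8, 1, 3, 64, 128], [false], 1, [false, true], 3, 9, [false, true, true], 2⟩, by decide +kernel⟩

theorem cz2 : ∃ c, chk [.z, .z] [17, 35, 19, 34] [35, 17, 1, 2] c = true :=
  ⟨⟨[243, 103, 171, 117, 165, 5, 245, 15], 7, [2, 3, 4, 8, 48, 16, 64, 128], [false], 1, [false, false, true], 2, 23, [false, true], 3⟩, by decide +kernel⟩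

theorem cz3 : ∃ c, chk [.z, .z, .z] [17, 35, 19, 34, 68, 140] [35, 17, 1, 2, 4, 8] c = true :=
  ⟨⟨[26, 66, 164, 129, 102, 59, 219, 246], 7, [2, 3, 204, 132, 48, 16, 4, 12], [false], 1, [false, false, true], 2, 4, [false, true], 2⟩, by decide +kernel⟩

theorem cz4 : ∃ c, chk [.z, .z, .z, .z] [17, 35, 19, 34, 68, 140, 76, 136] [35, 17, 1, 2, 140, 68, 4, 8] c = true :=
  ⟨⟨[164, 237, 11, 1, 224, 171, 205, 144], 7, [2, 3, 8, 12, 48, 16, 192, 64], [false], 1, [false, false, true], 2, 1, [false, true], 3⟩, by decide +kernel⟩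

/-- **involutions** -/
theorem gg_two {a : G8} (ha : orderOf a = 2) : Gg a := by
  have h2 : a ^ 2 = 1 := by
    have := pow_orderOf_eq_one a
    rwa [ha] at this
  have hinv : ∀ v, L a (L a v) = v := by
    intro v
    rw [← LinearMap.comp_apply, ← L_mul, ← pow_two, h2, L_one]; rfl
  obtain ⟨j, m, vs, hf, hok, hind, -⟩ := peel_two _ (L a) le_rfl (L_iso a) hinv
  have hlen := len_ok j m vs hok
  have h4 := of_orth (orth_of_ok _ vs (by
    intro h
    rcases List.mem_append.1 h with h | h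
    · exact absurd (List.eq_of_mem_replicate h) (by decide)
    · exact absurd (List.eq_of_mem_replicate h) (by decide)) hok) hind
  rw [hlen] at h4
  have h0 : ¬ (j = 0 ∧ m = 0) := by
    rintro ⟨rfl, rfl⟩
    have h1 : a = 1 := L_injective (by rw [hf, L_one]; rfl)
    rw [h1, orderOf_one] at ha
    omega
  have hm : m ≤ 2 := by omega
  have hj : j ≤ 4 := by omega
  interval_cases m <;> interval_cases j <;> try omega
  · obtain ⟨c, hc⟩ := ci10
    exact gg_of_chk hc hf hok hind
  · obtain ⟨c, hc⟩ := ci20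
    exact gg_of_chk hc hf hok hind
  · obtain ⟨c, hc⟩ := ci30
    exact gg_of_chk hc hf hok hind
  · obtain ⟨c, hc⟩ := ci40
    exact gg_of_chk hc hf hok hind
  · obtain ⟨c, hc⟩ := ci01
    exact gg_of_chk hc hf hok hind
  · obtain ⟨c, hc⟩ := ci11
    exact gg_of_chk hc hf hok hind
  · obtain ⟨c, hc⟩ := ci21
    exact gg_of_chk hc hf hok hind
  · obtain ⟨c, hc⟩ := ci02
    exact gg_of_chk hc hf hok hind

/-- **elements of order `3`** -/
theorem gg_three {a : G8} (ha : orderOf a = 3) : Gg a := by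
  have h3 : a ^ 3 = 1 := by
    have := pow_orderOf_eq_one a
    rwa [ha] at this
  have hinv : ∀ v, L a (L a (L a v)) = v := by
    intro v
    have e : L (a ^ 3) v = L a (L a (L a v)) := by rw [pow_succ, pow_two, L_mul, L_mul]; rfl
    rw [← e, h3, L_one]; rfl
  obtain ⟨k, vs, hf, hok, hind, -⟩ := peel_three _ (L a) le_rfl (L_iso a) hinv
  have hlen := len_z k vs hok
  have h4 : vs.length ≤ 8 := by
    have := hind.fintype_card_le_finrank
    simpa using this
  rw [hlen] at h4
  have h0 : k ≠ 0 := by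
    rintro rfl
    have h1 : a = 1 := L_injective (by rw [hf, L_one]; rfl)
    rw [h1, orderOf_one] at ha
    omega
  have hk : k ≤ 4 := by omega
  interval_cases k <;> try omega
  · obtain ⟨c, hc⟩ := cz1
    exact gg_of_chk hc hf hok hind
  · obtain ⟨c, hc⟩ := cz2
    exact gg_of_chk hc hf hok hind
  · obtain ⟨c, hc⟩ := cz3
    exact gg_of_chk hc hf hok hind
  · obtain ⟨c, hc⟩ := cz4
    exact gg_of_chk hc hf hok hind

/-! ### The orders `5` and `7` -/

def c5A : List ℕ := [55, 48, 103, 8, 20, 18, 4, 128]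

def c5B : List ℕ := [56, 51, 4, 170, 41, 40, 64, 8]

theorem c5b : ∃ c, check c5B c = true :=
  ⟨⟨[144, 20, 217, 105, 103, 9, 111, 75], 15, [48, 179, 4, 128, 33, 160, 64, 155], [false, false, true], 1, [false], 3, 26, [false, true], 2⟩, by decide +kernel⟩

theorem c5ab0 : ∃ c, check (mulN c5A (powN c5B 0)) c = true :=
  ⟨⟨[150, 2, 206, 15, 207, 161, 146, 132], 7, [51, 112, 64, 8, 80, 82, 85, 128], [false], 1, [false, true, true], 1, 18, [false, true], 2⟩, by decide +kernel⟩

theorem c5ab1 : ∃ c, check (mulN c5A (powN c5B 1)) c = true :=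
  ⟨⟨[243, 185, 171, 148, 41, 87, 36, 82], 7, [2, 193, 64, 128, 97, 210, 85, 155], [false], 1, [false, false, true], 2, 22, [false, true], 1⟩, by decide +kernel⟩

theorem c5ab2 : ∃ c, check (mulN c5A (powN c5B 2)) c = true :=
  ⟨⟨[55, 236, 117, 246, 234, 65, 224, 11], 7, [179, 235, 64, 155, 208, 73, 85, 185], [false], 1, [false, true], 2, 11, [false, true, true], 2⟩, by decide +kernel⟩

theorem c5ab3 : ∃ c, check (mulN c5A (powN c5B 3)) c = true :=
  ⟨⟨[176, 208, 110, 103, 37, 45, 80, 112], 15, [153, 120, 64, 185, 250, 240, 85, 170], [false, false, false, true], 1, [false, true], 1, 25, [false], 3⟩, by decide +kernel⟩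

theorem c5ab4 : ∃ c, check (mulN c5A (powN c5B 4)) c = true :=
  ⟨⟨[175, 14, 111, 174, 186, 44, 4, 179], 7, [10, 65, 64, 170, 105, 90, 85, 8], [false], 1, [false, true], 3, 1, [false, false, true], 2⟩, by decide +kernel⟩

def c7 : List ℕ := [67, 102, 103, 8, 96, 48, 112, 128]

theorem c77 : ∃ c, check c7 c = true :=
  ⟨⟨[213, 80, 111, 74, 66, 102, 24, 189], 7, [6, 103, 117, 8, 80, 112, 96, 128], [false], 1, [false, true], 2, 17, [false, true, true], 2⟩, by decide +kernel⟩

theorem exists_conj {p : ℕ} [Fact p.Prime] {G : Type*} [Group G] [Finite G] {E : Subgroup G} {k : ℕ}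
    (hE : Nat.card E = p ^ k) (hk : ¬ p ^ (k + 1) ∣ Nat.card G) {a : G} (ha : orderOf a = p) :
    ∃ b : G, b * a * b⁻¹ ∈ E := by
  have h1 : IsPGroup p E := IsPGroup.of_card hE
  obtain ⟨P, hP⟩ := h1.exists_le_sylow
  have hPe : E = P := by
    refine Subgroup.eq_of_le_of_card_ge hP ?_
    obtain ⟨l, hl⟩ := IsPGroup.iff_card.1 P.isPGroup'
    rw [hl, hE]
    refine Nat.pow_le_pow_right (Nat.Prime.pos Fact.out) ?_
    by_contra hcon
    exact hk ((pow_dvd_pow p (by omega : k + 1 ≤ l)).trans (hl ▸ Subgroup.card_subgroup_dvd_card (P : Subgroup G)))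
  have h2 : IsPGroup p (zpowers a) := IsPGroup.of_card (n := 1) (by rw [Nat.card_zpowers, ha, pow_one])
  obtain ⟨P', hP'⟩ := h2.exists_le_sylow
  obtain ⟨b, hb⟩ := MulAction.exists_smul_eq G P' P
  refine ⟨b, ?_⟩
  rw [hPe, ← hb, Sylow.coe_subgroup_smul]
  exact Subgroup.smul_mem_pointwise_smul a (MulAut.conj b) _ (hP' (mem_zpowers a))

theorem card_g8 : Nat.card G8 = 348364800 := by
  have h1 := Subgroup.card_mul_index (Omega (ZMod 2) Q8)
  rw [index_s8, show Nat.card (Omega (ZMod 2) Q8) = 174182400 from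
    (Nat.card_congr e8.toEquiv).trans card_t8] at h1
  exact h1.symm

instance : Finite G8 := Nat.finite_of_card_ne_zero (by rw [card_g8]; norm_num)

/-- **elements of order `7`** -/
theorem gg_seven {a : G8} (ha : orderOf a = 7) : Gg a := by
  haveI : Fact (Nat.Prime 7) := ⟨by norm_num⟩
  obtain ⟨c, hc⟩ := c77
  obtain ⟨g, hg⟩ := exists_g (c := c7) (by decide +kernel)
  have hgo : orderOf g = 7 := hg.order (by norm_num) (by decide +kernel)
  obtain ⟨b, hb⟩ := exists_conj (p := 7) (E := zpowers g) (k := 1) (by rw [Nat.card_zpowers, hgo, pow_one])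
    (by rw [card_g8]; norm_num) ha
  refine Gg.of_conj b ?_
  have h1 : orderOf (b * a * b⁻¹) = 7 := by
    rw [← ha]
    exact orderOf_injective (MulAut.conj b).toMonoidHom (MulAut.conj b).injective a
  have h2 : zpowers (b * a * b⁻¹) = zpowers g := by
    refine Subgroup.eq_of_le_of_card_ge (zpowers_le.2 hb) ?_
    rw [Nat.card_zpowers, Nat.card_zpowers, hgo, h1]
  have h3 : g ∈ zpowers (b * a * b⁻¹) := by rw [h2]; exact mem_zpowers g
  obtain ⟨n, hn⟩ := (mem_powers_iff_mem_zpowers.2 h3)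
  refine Gg.of_pow (n := n) ?_
  have h4 : (b * a * b⁻¹) ^ n = g := hn
  rw [h4]
  exact gg_of_check hg hc

/-- **elements of order `5`** -/
theorem gg_five {a : G8} (ha : orderOf a = 5) : Gg a := by
  haveI : Fact (Nat.Prime 5) := ⟨Nat.prime_five⟩
  obtain ⟨A, hA⟩ := exists_g (c := c5A) (by decide +kernel)
  obtain ⟨B, hB⟩ := exists_g (c := c5B) (by decide +kernel)
  have hAo : orderOf A = 5 := hA.order (by norm_num) (by decide +kernel)
  have hBo : orderOf B = 5 := hB.order (by norm_num) (by decide +kernel)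
  have hA5 : A ^ 5 = 1 := by
    have := pow_orderOf_eq_one A
    rwa [hAo] at this
  have hB5 : B ^ 5 = 1 := by
    have := pow_orderOf_eq_one B
    rwa [hBo] at this
  have hAB : Commute A B := (hA.mulG hB).inj (by
    have h1 : mulN c5A c5B = mulN c5B c5A := by decide +kernel
    rw [h1]
    exact hB.mulG hA)
  have hmod : ∀ (g : G8) (hg : g ^ 5 = 1) (n : ℕ), g ^ n = g ^ (n % 5) := by
    intro g hg n
    conv_lhs => rw [← Nat.div_add_mod n 5, pow_add, pow_mul, hg, one_pow, one_mul]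
  let E : Subgroup G8 :=
    { carrier := {g | ∃ i j : ℕ, g = A ^ i * B ^ j}
      one_mem' := ⟨0, 0, by simp⟩
      mul_mem' := by
        rintro _ _ ⟨i, j, rfl⟩ ⟨i', j', rfl⟩
        refine ⟨i + i', j + j', ?_⟩
        rw [pow_add, pow_add]
        calc A ^ i * B ^ j * (A ^ i' * B ^ j') = A ^ i * (B ^ j * A ^ i') * B ^ j' := by group
          _ = A ^ i * (A ^ i' * B ^ j) * B ^ j' := by rw [((hAB.pow_left i').pow_right j).eq]
          _ = _ := by group
      inv_mem' := by
        rintro _ ⟨i, j, rfl⟩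
        refine ⟨4 * i, 4 * j, ?_⟩
        apply inv_eq_of_mul_eq_one_right
        calc A ^ i * B ^ j * (A ^ (4 * i) * B ^ (4 * j)) = A ^ i * (B ^ j * A ^ (4 * i)) * B ^ (4 * j) := by group
          _ = A ^ i * (A ^ (4 * i) * B ^ j) * B ^ (4 * j) := by rw [((hAB.pow_left (4 * i)).pow_right j).eq]
          _ = A ^ (5 * i) * B ^ (5 * j) := by
              rw [show 5 * i = i + 4 * i by ring, show 5 * j = j + 4 * j by ring, pow_add A, pow_add B]; group
          _ = 1 := by rw [pow_mul, pow_mul, hA5, hB5, one_pow, one_pow, one_mul] }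
  have hE5 : ∀ g ∈ E, g ^ 5 = 1 := by
    rintro _ ⟨i, j, rfl⟩
    rw [((hAB.pow_left i).pow_right j).mul_pow, ← pow_mul, ← pow_mul, mul_comm i, mul_comm j, pow_mul, pow_mul,
      hA5, hB5, one_pow, one_pow, one_mul]
  have hEp : IsPGroup 5 E := fun g => ⟨1, by rw [pow_one]; exact Subtype.ext (hE5 g g.2)⟩
  have hAE : A ∈ E := ⟨1, 0, by simp⟩
  have hBE : B ∈ E := ⟨0, 1, by simp⟩
  obtain ⟨k, hk⟩ := hEp.exists_card_eq
  have hk2 : k = 2 := by
    have h1 : 5 ^ k ∣ 348364800 := by rw [← hk, ← card_g8]; exact Subgroup.card_subgroup_dvd_card E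
    have h2 : k ≤ 2 := by
      by_contra hcon
      have h3 : 5 ^ 3 ∣ 5 ^ k := pow_dvd_pow 5 (by omega)
      exact absurd (h3.trans h1) (by norm_num)
    have h3 : 2 ≤ k := by
      by_contra hcon
      have h4 : zpowers A = E := by
        refine Subgroup.eq_of_le_of_card_ge (zpowers_le.2 hAE) ?_
        rw [hk, Nat.card_zpowers, hAo]
        calc 5 ^ k ≤ 5 ^ 1 := Nat.pow_le_pow_right (by norm_num) (by omega)
          _ = 5 := by norm_num
      rw [← h4] at hBE
      obtain ⟨n, hn⟩ := mem_powers_iff_mem_zpowers.2 hBE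
      have h5 : A ^ (n % 5) = B := by rw [← hmod A hA5]; exact hn
      have h6 : n % 5 < 5 := Nat.mod_lt _ (by norm_num)
      have h7 := hA.pow (n % 5)
      rw [h5] at h7
      have h8 := hB.2 (.inl 0)
      have h9 := h7.2 (.inl 0)
      rw [h9] at h8
      have h10 : ∀ l < 5, (powN c5A l).getD (ix (.inl 0)) 0 ≠ c5B.getD (ix (.inl 0)) 0 ∧
          (powN c5A l).getD (ix (.inl 0)) 0 < 256 := by decide +kernel
      exact (h10 _ h6).1 (dec_inj (h10 _ h6).2 (by decide +kernel) h8)
    omega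
  obtain ⟨b, hb⟩ := exists_conj (p := 5) (E := E) (k := 2) (by rw [hk, hk2]) (by rw [card_g8]; norm_num) ha
  refine Gg.of_conj b ?_
  have h1 : orderOf (b * a * b⁻¹) = 5 := by
    rw [← ha]
    exact orderOf_injective (MulAut.conj b).toMonoidHom (MulAut.conj b).injective a
  obtain ⟨i, j, hij⟩ := hb
  rw [hij] at h1 ⊢
  rw [hmod A hA5 i, hmod B hB5 j] at h1 ⊢
  have hi := Nat.mod_lt i (by norm_num : 0 < 5)
  have hj := Nat.mod_lt j (by norm_num : 0 < 5)
  generalize i % 5 = i at *
  generalize j % 5 = j at *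
  have hAk : ∀ n < 5, Gg (A * B ^ n) := by
    intro n hn
    have hr := hA.mulG (hB.pow n)
    interval_cases n
    · obtain ⟨c, hc⟩ := c5ab0; exact gg_of_check hr hc
    · obtain ⟨c, hc⟩ := c5ab1; exact gg_of_check hr hc
    · obtain ⟨c, hc⟩ := c5ab2; exact gg_of_check hr hc
    · obtain ⟨c, hc⟩ := c5ab3; exact gg_of_check hr hc
    · obtain ⟨c, hc⟩ := c5ab4; exact gg_of_check hr hc
  have hB' : Gg B := by
    obtain ⟨c, hc⟩ := c5b
    exact gg_of_check hB hc
  by_cases hi0 : i = 0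
  · subst hi0
    rw [pow_zero, one_mul] at h1 ⊢
    have hj0 : j ≠ 0 := by
      rintro rfl
      rw [pow_zero, orderOf_one] at h1
      omega
    have h3 : ∃ l t, j * l = 5 * t + 1 := by
      have h4 : j = 1 ∨ j = 2 ∨ j = 3 ∨ j = 4 := by omega
      rcases h4 with rfl | rfl | rfl | rfl
      · exact ⟨1, 0, rfl⟩
      · exact ⟨3, 1, rfl⟩
      · exact ⟨2, 1, rfl⟩
      · exact ⟨4, 3, rfl⟩
    obtain ⟨l, t, hlt⟩ := h3
    refine Gg.of_pow (n := l) ?_
    rw [← pow_mul, hlt, pow_succ, pow_mul, hB5, one_pow, one_mul]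
    exact hB'
  · have h3 : ∃ l t, i * l = 5 * t + 1 := by
      have h4 : i = 1 ∨ i = 2 ∨ i = 3 ∨ i = 4 := by omega
      rcases h4 with rfl | rfl | rfl | rfl
      · exact ⟨1, 0, rfl⟩
      · exact ⟨3, 1, rfl⟩
      · exact ⟨2, 1, rfl⟩
      · exact ⟨4, 3, rfl⟩
    obtain ⟨l, t, hlt⟩ := h3
    refine Gg.of_pow (n := l) ?_
    rw [((hAB.pow_left i).pow_right j).mul_pow, ← pow_mul, hlt, pow_succ, pow_mul, hA5, one_pow, one_mul,
      ← pow_mul, hmod B hB5]
    exact hAk _ (Nat.mod_lt _ (by norm_num))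

end Cfsg.Agent.H884.Oc
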