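import Cfsg.Agent.H884.Oc.ClassD
import Cfsg.Agent.H462.OEight.Stab
import Cfsg.Agent.H198.Carriers

/-!
# S3938, `Ω⁺₈(2)`: triality moves the class `D` (helper884)
-/

set_option autoImplicit false
set_option maxRecDepth 100000
set_option linter.unusedSectionVars false
set_option linter.style.haveILetI false
set_option linter.unusedVariables false

namespace Cfsg.Agent.H884.Oc

open Subgroup Cfsg Cfsg.Agent Cfsg.Agent.H503 Cfsg.Agent.H503.El.O8 Module
open Cfsg.Agent.LieClassical.OrthTrans (Good)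
open Cfsg.Agent.LieClassical.OrthCore (E)
open Cfsg.Agent.H57.BG (actV)
open Cfsg.Agent.ClassicalGeometry.OrthAut1 (P TS stab mem_stab_of_map_le apply_mem_of_mem_stab)
open Cfsg.Agent.LieClassical.QuadForms (plusForm)
open Cfsg.Agent.H884.Od8 (fx card_inv_mod)

/-- an element of order `5` which preserves a totally singular `4`-space has no fixed vectors -/
theorem not_D {g : S8} {X : Submodule (ZMod 2) V8} (hX : ∀ w ∈ X, Q8 w = 0) (h4 : finrank (ZMod 2) X = 4)
    (hg : ∀ w ∈ X, L g w ∈ X) : ¬ D g := by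
  rintro ⟨ho, v, hv, hgv⟩
  have hXX : ∀ u ∈ X, ∀ w ∈ X, B u w = 0 := by
    intro u hu w hw
    unfold B
    rw [hX _ (X.add_mem hu hw), hX _ hu, hX _ hw]; rfl
  have hperp : ∀ u, (∀ w ∈ X, B u w = 0) → u ∈ X := by
    intro u hu
    have h2 := LinearMap.BilinForm.finrank_orthogonal (B := QuadraticMap.polarBilin QP) hnd8 X
    have h3 : finrank (ZMod 2) V8 = 8 := by simp
    rw [h3, h4] at h2
    have h5 : X ≤ LinearMap.BilinForm.orthogonal (QuadraticMap.polarBilin QP) X := by
      intro w hw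
      rw [LinearMap.BilinForm.mem_orthogonal_iff]
      intro w' hw'
      have := hXX w' hw' w hw
      rwa [B_eq] at this
    have h6 := Submodule.eq_of_le_of_finrank_eq h5 (by rw [h2, h4])
    rw [h6, LinearMap.BilinForm.mem_orthogonal_iff]
    intro w hw
    have := hu w hw
    rw [B_comm, B_eq] at this
    exact this
  have hiso : Iso (L g) := L_iso g
  have h5 : (g : G8) ^ 5 = 1 := by
    have h1 := pow_orderOf_eq_one g
    rw [ho] at h1
    rw [← Subgroup.coe_pow, h1]; rfl
  have hne : (g : G8) ≠ 1 := by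
    intro h
    have : g = 1 := Subtype.ext h
    rw [this, orderOf_one] at ho
    omega
  have hL5 : ∀ w, L g (L g (L g (L g (L g w)))) = w := by
    intro w
    have e : L ((g : G8) ^ 5) w = L g (L g (L g (L g (L g w)))) := by
      rw [show (g : G8) ^ 5 = g * (g * (g * (g * g))) by simp only [pow_succ, pow_zero, one_mul, mul_assoc], L_mul,
        L_mul, L_mul, L_mul]; rfl
    rw [← e, h5, L_one]; rfl
  -- not trivial on `X`
  have h1 : ¬ ∀ w ∈ X, L g w = w := by
    intro h
    have h6 : ∀ u, L g (L g u) = u := by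
      intro u
      have h7 : u + L g u ∈ X := by
        apply hperp
        intro w hw
        have := hiso.B u w
        rw [h w hw] at this
        rw [B_add_left, this, two_zero]
      have h8 := h _ h7
      rw [map_add] at h8
      exact add_left_cancel (h8.trans (add_comm _ _))
    apply hne
    apply L_injective
    rw [L_one]
    apply LinearMap.ext
    intro w
    have := hL5 w
    rw [h6, h6] at this
    exact this
  -- no fixed vectors in `X`
  letI := act8
  have h2 : ∀ w ∈ X, L g w = w → w = 0 := by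
    let Y : Subgroup (Multiplicative V8) := AddSubgroup.toSubgroup X.toAddSubgroup
    have hY : Nat.card Y = 16 := by
      have h6 : Nat.card X = 2 ^ 4 := by
        rw [Module.natCard_eq_pow_finrank (K := ZMod 2) (V := X), h4, Nat.card_zmod]
      exact h6
    have h7 := card_inv_mod (by norm_num) ho Y (fun w hw => hg _ hw)
    have h8 : Nat.card (Y ⊓ fx (Multiplicative V8) g : Subgroup (Multiplicative V8)) ∣ 16 :=
      hY ▸ Subgroup.card_dvd_of_le inf_le_left
    rw [hY] at h7
    obtain ⟨j, hj, hj'⟩ := (Nat.dvd_prime_pow Nat.prime_two (m := 4)).1 (h8.trans (by norm_num : (16 : ℕ) ∣ 2 ^ 4))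
    rw [hj'] at h7
    have hj0 : j = 0 := by
      have hj4 : j ≠ 4 := by
        rintro rfl
        apply h1
        intro w hw
        have h9 : Y ⊓ fx (Multiplicative V8) g = Y :=
          Subgroup.eq_of_le_of_card_ge inf_le_left (by rw [hj', hY]; norm_num)
        have h10 : (Multiplicative.ofAdd w) ∈ Y ⊓ fx (Multiplicative V8) g := by rw [h9]; exact hw
        exact h10.2
      unfold Nat.ModEq at h7
      interval_cases j <;> simp_all
    rw [hj0, pow_zero] at hj'
    have h9 := Subgroup.card_eq_one.1 hj'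
    intro w hw hgw
    have h10 : (Multiplicative.ofAdd w) ∈ Y ⊓ fx (Multiplicative V8) g := ⟨hw, hgw⟩
    rw [h9] at h10
    exact h10
  apply hv
  refine h2 v (hperp v fun w hw => ?_) hgv
  have h6 : w + (L g w + (L g (L g w) + (L g (L g (L g w)) + L g (L g (L g (L g w)))))) = 0 := by
    apply h2
    · exact X.add_mem hw (X.add_mem (hg _ hw) (X.add_mem (hg _ (hg _ hw)) (X.add_mem (hg _ (hg _ (hg _ hw)))
        (hg _ (hg _ (hg _ (hg _ hw)))))))
    · simp only [map_add, hL5]
      abel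
  have h7 : ∀ u, B v (L g u) = B v u := by
    intro u
    have := hiso.B v u
    rwa [hgv] at this
  have h8 := congrArg (B v) h6
  rw [B_add_right, B_add_right, B_add_right, B_add_right, h7, h7, h7, h7, h7, h7, h7, h7, h7, h7, B_zero_right] at h8
  rcases z2 (B v w) with h9 | h9
  · exact h9
  · rw [h9] at h8
    exact absurd h8 (by decide)

/-- the isomorphism with `P8` -/
theorem exists_phi (hG : Good (plusForm 4 (ZMod 2))) : ∃ φ : S8 ≃* P (plusForm 4 (ZMod 2)),
    ∀ s : S8, ∃ g : ↥(E (plusForm 4 (ZMod 2))), φ s = (g : P (plusForm 4 (ZMod 2))) ∧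
      ∀ v, (g : V8 ≃ₗ[ZMod 2] V8) v = L s v := by
  have key : ∀ {Q : QuadraticForm (ZMod 2) V8} (_ : Q = plusForm 4 (ZMod 2)) (_ : Good Q),
      ∃ φ : ↥(Omega (ZMod 2) ⇑Q) →* P (plusForm 4 (ZMod 2)), Function.Surjective φ ∧
        (∀ s, φ s = 1 → s ∈ center ↥(Omega (ZMod 2) ⇑Q)) ∧
        ∀ s : ↥(Omega (ZMod 2) ⇑Q), ∃ g : ↥(E (plusForm 4 (ZMod 2))), φ s = (g : P (plusForm 4 (ZMod 2))) ∧
          ∀ v, (g : V8 ≃ₗ[ZMod 2] V8) v =
            (((s : isometryGroup (ZMod 2) ⇑Q) : GL I8 (ZMod 2)) : Matrix I8 I8 (ZMod 2)).mulVec v := by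
    intro Q hQ hGQ
    subst hQ
    refine ⟨(QuotientGroup.mk' (center ↥(E (plusForm 4 (ZMod 2))))).comp (AutOrth.Main.oe hGQ).toMonoidHom, ?_, ?_, ?_⟩
    · exact (QuotientGroup.mk'_surjective _).comp (AutOrth.Main.oe hGQ).surjective
    · intro s hs
      have h1 : AutOrth.Main.oe hGQ s ∈ center ↥(E (plusForm 4 (ZMod 2))) := (QuotientGroup.eq_one_iff _).1 hs
      rw [Subgroup.mem_center_iff] at h1 ⊢
      intro t
      apply (AutOrth.Main.oe hGQ).injective
      rw [map_mul, map_mul]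
      exact h1 _
    · intro s
      exact ⟨AutOrth.Main.oe hGQ s, rfl, AutOrth.Main.oe_apply hGQ s⟩
  obtain ⟨φ, hsur, hker, hφ⟩ := key (H198.Carriers.plusQ_eq 4 (ZMod 2)) (H198.Carriers.good_plusQ (by norm_num : 3 ≤ 4))
  have hinj : Function.Injective φ := by
    rw [injective_iff_map_eq_one]
    intro s hs
    have h1 := hker s hs
    have h2 : s ∈ center S8 := h1
    rw [center_s8] at h2
    exact h2
  refine ⟨MulEquiv.ofBijective φ ⟨hinj, hsur⟩, fun s => ?_⟩
  obtain ⟨g, hg, hgv⟩ := hφ s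
  exact ⟨g, hg, fun v => (hgv v).trans (L_apply _ _).symm⟩

/-- **triality** -/
theorem exists_tri : ∃ τ : MulAut S8, ∃ e : S8, D e ∧ ¬ D (τ e) := by
  have hG : Good (plusForm 4 (ZMod 2)) := AutOrth.Main.good_plus (by norm_num : 3 ≤ 4)
  obtain ⟨φ, hφ⟩ := exists_phi hG
  obtain ⟨X, hX, h4⟩ : ∃ X : Submodule (ZMod 2) V8, TS (plusForm 4 (ZMod 2)) X ∧ finrank (ZMod 2) X = 4 := by
    obtain ⟨X, h4, hX⟩ := H462.OEight.exists_tsm (F := ZMod 2)
    exact ⟨X, hX, h4⟩
  obtain ⟨α, u, hu, hu0, hα⟩ := H462.OEight.exists_aut_stab hG hX h4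
  have hform : ∀ v, plusForm 4 (ZMod 2) v = Q8 v := fun v =>
    congrFun (LieClassical.OrthForms.coe_plusForm (F := ZMod 2) 4) v
  obtain ⟨A, hA, hAD, -⟩ := exists_D
  have h8 : L A (dec 8) = dec 8 := by
    rw [hA.app]
    congr 1
  -- move the fixed vector to `u`
  obtain ⟨b, hb⟩ : ∃ b : G8, L b (dec 8) = u := by
    letI := actV Q8
    have h1 := orbit_iso (v := dec 8) (dec_ne (by norm_num) (by norm_num))
    have h2 : u ∈ MulAction.orbit (isometryGroup (ZMod 2) Q8) (dec 8 : V8) := by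
      rw [h1]
      refine ⟨hu0, ?_⟩
      rw [← hform, hu]
      decide +kernel
    obtain ⟨b, hb⟩ := h2
    exact ⟨b, (L_apply b _).trans hb⟩
  set e : S8 := MulAut.conjNormal b A with he
  have heD : D e := hAD.conjG b
  have heu : L e u = u := by
    rw [he, MulAut.conjNormal_apply, L_mul, L_mul, LinearMap.comp_apply, LinearMap.comp_apply]
    have h1 : L b⁻¹ u = dec 8 := by
      rw [← hb, ← LinearMap.comp_apply, ← L_mul, inv_mul_cancel, L_one]; rfl
    rw [h1, h8, hb]
  obtain ⟨g, hg, hgv⟩ := hφ e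
  have h1 : φ e ∈ stab hG (Submodule.span (ZMod 2) {u}) := by
    rw [hg]
    apply mem_stab_of_map_le hG
    intro w hw
    obtain ⟨c, rfl⟩ := Submodule.mem_span_singleton.1 hw
    rw [hgv, map_smul, heu]
    exact hw
  have h2 : α (φ e) ∈ stab hG X := by
    rw [← hα]
    exact ⟨_, h1, rfl⟩
  set τ : MulAut S8 := (φ.trans α).trans φ.symm with hτ
  refine ⟨τ, e, heD, ?_⟩
  obtain ⟨g', hg', hgv'⟩ := hφ (τ e)
  have h3 : φ (τ e) = α (φ e) := φ.apply_symm_apply _
  refine not_D (X := X) (fun w hw => by rw [← hform]; exact hX w hw) h4 ?_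
  intro w hw
  rw [← hgv']
  apply apply_mem_of_mem_stab (hG := hG) _ hw
  rw [← hg', h3]
  exact h2

end Cfsg.Agent.H884.Oc
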